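import Cfsg.Agent.Lib.Perm.CoprimeClassSizes
import Cfsg.Agent.Lib.Solv.Parts
import Mathlib.GroupTheory.SchurZassenhaus

/-!
Groups with class sizes `1`, `m`, `m n`: elementary facts.
-/

set_option autoImplicit false
set_option linter.style.haveILetI false
set_option linter.unusedSectionVars false

namespace Cfsg.Agent.Perm.ThreeSizes

open Cfsg.Agent.Perm.CoprimeSizes

universe u

variable {G : Type u} [Group G] [Finite G]

/-- The class sizes are `1`, `m` and `m * n` with `m, n > 1` coprime. -/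
structure Hyp (G : Type u) [Group G] (m n : ℕ) : Prop where
  one_lt_m : 1 < m
  one_lt_n : 1 < n
  cop : m.Coprime n
  cases : ∀ g : G, cls g = 1 ∨ cls g = m ∨ cls g = m * n
  exists_m : ∃ g : G, cls g = m
  exists_mn : ∃ g : G, cls g = m * n

/-- An element of `q`-power order. -/
def IsPow (q : ℕ) (u : G) : Prop := ∃ k : ℕ, orderOf u = q ^ k

theorem isPow_of_mem {q : ℕ} [Fact q.Prime] {X : Subgroup G} (hX : IsPGroup q X) {u : G} (hu : u ∈ X) :
    IsPow q u := by
  obtain ⟨k, hk⟩ := IsPGroup.iff_orderOf.1 hX ⟨u, hu⟩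
  exact ⟨k, by rw [← hk, ← Subgroup.orderOf_coe]⟩

theorem IsPow.coprime {q : ℕ} {u v : G} (hu : IsPow q u) (hv : (orderOf v).Coprime q) :
    (orderOf u).Coprime (orderOf v) := by
  obtain ⟨k, hk⟩ := hu
  rw [hk]
  exact (hv.pow_right k).symm

theorem IsPow.coprime' {q t : ℕ} {u : G} (hq : q.Prime) (ht : t.Prime) (hne : q ≠ t) (hu : IsPow q u) :
    (orderOf u).Coprime t := by
  obtain ⟨k, hk⟩ := hu
  rw [hk]
  exact Nat.Coprime.pow_left k ((Nat.coprime_primes hq ht).2 hne)

theorem coprime_orderOf_of_mem {q : ℕ} {X : Subgroup G} (hX : (Nat.card X).Coprime q) {v : G}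
    (hv : v ∈ X) : (orderOf v).Coprime q := by
  refine Nat.Coprime.coprime_dvd_left ?_ hX
  rw [← Subgroup.orderOf_mk v hv]
  exact orderOf_dvd_natCard _

theorem IsPow.eq_one {q : ℕ} {u : G} (hu : IsPow q u) (h : (orderOf u).Coprime q) : u = 1 := by
  obtain ⟨k, hk⟩ := hu
  rw [← orderOf_eq_one_iff, hk]
  rw [hk] at h
  exact Nat.eq_one_of_dvd_coprimes (h.pow_right k) dvd_rfl dvd_rfl

theorem IsPow.conj {q : ℕ} {u : G} (hu : IsPow q u) (g : G) : IsPow q (g * u * g⁻¹) := by
  obtain ⟨k, hk⟩ := hu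
  exact ⟨k, by rw [← MulAut.conj_apply, MulEquiv.orderOf_eq, hk]⟩

theorem conj_notMem_center {u : G} (hu : u ∉ Subgroup.center G) (g : G) :
    g * u * g⁻¹ ∉ Subgroup.center G := fun h => hu (by
  have := (inferInstance : (Subgroup.center G).Normal).conj_mem _ h g⁻¹
  simpa [mul_assoc] using this)

theorem cent_mul {u v : G} (h : Commute u v) (hco : (orderOf u).Coprime (orderOf v)) :
    cent (u * v) = cent u ⊓ cent v := by
  refine le_antisymm (fun a ha => ?_) (fun a ha => ?_)
  · have hc : Commute a (u * v) := mem_cent.1 ha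
    have key : ∀ x y : G, Commute x y → (orderOf x).Coprime (orderOf y) → Commute a (x * y) → Commute a x := by
      intro x y hxy hco hc
      obtain ⟨i, hi1, hi0⟩ := Nat.chineseRemainder hco 1 0
      have : (x * y) ^ i = x := by
        rw [hxy.mul_pow, orderOf_dvd_iff_pow_eq_one.1 (Nat.modEq_zero_iff_dvd.1 hi0), mul_one]
        conv_rhs => rw [← pow_one x]
        exact pow_eq_pow_iff_modEq.2 hi1
      exact this ▸ hc.pow_right i
    exact Subgroup.mem_inf.2 ⟨mem_cent.2 (key u v h hco hc), mem_cent.2 (key v u h.symm hco.symm (h.eq ▸ hc))⟩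
  · obtain ⟨h1, h2⟩ := Subgroup.mem_inf.1 ha
    exact mem_cent.2 (Commute.mul_right (show Commute a u from mem_cent.1 h1) (mem_cent.1 h2))

theorem mul_notMem_center {u v : G} (h : Commute u v) (hco : (orderOf u).Coprime (orderOf v))
    (hu : u ∉ Subgroup.center G) : u * v ∉ Subgroup.center G := fun hc => hu (by
  rw [← cls_eq_one_iff] at hc ⊢
  rw [Subgroup.index_eq_one] at hc ⊢
  rw [eq_top_iff, ← hc, cent_mul h hco]
  exact inf_le_left)

theorem eq_of_le_cls {a b : G} (hle : cent a ≤ cent b) (h : cls a ≤ cls b) : cent a = cent b :=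
  (cent_eq_of_le hle (le_antisymm (Nat.le_of_dvd (cls_pos a) (Subgroup.index_dvd_of_le hle)) h)).symm

variable {m n : ℕ}

/-- The exponent of `q` in the order of the centralizer of a noncentral element. -/
noncomputable def cq (G : Type u) [Group G] (m q : ℕ) : ℕ :=
  (Nat.card G).factorization q - m.factorization q

namespace Hyp

variable (H : Hyp G m n)
include H

theorem noncentral {g : G} (hg : g ∉ Subgroup.center G) : cls g = m ∨ cls g = m * n :=
  (H.cases g).resolve_left fun h => hg (cls_eq_one_iff.1 h)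

theorem m_dvd {g : G} (hg : g ∉ Subgroup.center G) : m ∣ cls g := by
  rcases H.noncentral hg with h | h <;> rw [h]
  exact dvd_mul_right m n

theorem le_mn {g : G} (hg : g ∉ Subgroup.center G) : cls g ≤ m * n := by
  rcases H.noncentral hg with h | h <;> rw [h]
  exact Nat.le_mul_of_pos_right m (Nat.lt_of_succ_lt H.one_lt_n)

theorem m_notMem {g : G} (h : cls g = m) : g ∉ Subgroup.center G := fun hc => by
  rw [← cls_eq_one_iff, h] at hc; exact absurd hc (ne_of_gt H.one_lt_m)

theorem mn_notMem {g : G} (h : cls g = m * n) : g ∉ Subgroup.center G := fun hc => by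
  rw [← cls_eq_one_iff, h] at hc
  have := Nat.eq_one_of_mul_eq_one_right hc
  exact absurd this (ne_of_gt H.one_lt_m)

theorem fac_cls {q : ℕ} (hq : q.Prime) (hqm : q ∣ m) {g : G} (hg : g ∉ Subgroup.center G) :
    (cls g).factorization q = m.factorization q := by
  rcases H.noncentral hg with h | h <;> rw [h]
  have hm0 : m ≠ 0 := (Nat.lt_of_succ_lt H.one_lt_m).ne'
  have hn0 : n ≠ 0 := (Nat.lt_of_succ_lt H.one_lt_n).ne'
  rw [Nat.factorization_mul hm0 hn0, Finsupp.add_apply, Nat.factorization_eq_zero_of_not_dvd (n := n),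
    add_zero]
  intro hqn
  exact hq.ne_one (Nat.eq_one_of_dvd_coprimes H.cop hqm hqn)

theorem fac_cent_add {q : ℕ} (hq : q.Prime) (hqm : q ∣ m) {g : G} (hg : g ∉ Subgroup.center G) :
    (Nat.card (cent g)).factorization q + m.factorization q = (Nat.card G).factorization q := by
  rw [← H.fac_cls hq hqm hg, ← Finsupp.add_apply,
    ← Nat.factorization_mul Nat.card_pos.ne' (cls_pos g).ne', Subgroup.card_mul_index]

theorem fac_cent {q : ℕ} (hq : q.Prime) (hqm : q ∣ m) {g : G} (hg : g ∉ Subgroup.center G) :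
    (Nat.card (cent g)).factorization q = cq G m q := by
  have := H.fac_cent_add hq hqm hg
  unfold cq
  omega

theorem cq_add {q : ℕ} (hq : q.Prime) (hqm : q ∣ m) :
    cq G m q + m.factorization q = (Nat.card G).factorization q := by
  obtain ⟨g, hg⟩ := H.exists_m
  rw [← H.fac_cent hq hqm (H.m_notMem hg)]
  exact H.fac_cent_add hq hqm (H.m_notMem hg)

theorem fac_pos {q : ℕ} (hq : q.Prime) (hqm : q ∣ m) : 0 < m.factorization q :=
  hq.factorization_pos_of_dvd (Nat.lt_of_succ_lt H.one_lt_m).ne' hqm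

theorem sylow_in {q : ℕ} [Fact q.Prime] (hqm : q ∣ m) {g : G} (hg : g ∉ Subgroup.center G) :
    ∃ T : Subgroup G, T ≤ cent g ∧ IsPGroup q T ∧ Nat.card T = q ^ cq G m q := by
  obtain ⟨T⟩ : Nonempty (Sylow q (cent g)) := inferInstance
  refine ⟨(T : Subgroup (cent g)).map (cent g).subtype, Subgroup.map_subtype_le _, T.2.map _, ?_⟩
  rw [Subgroup.card_subtype, T.card_eq_multiplicity, H.fac_cent Fact.out hqm hg]

theorem card_le {q : ℕ} [Fact q.Prime] (hqm : q ∣ m) {g : G} (hg : g ∉ Subgroup.center G)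
    {X : Subgroup G} (hX : IsPGroup q X) (hle : X ≤ cent g) : Nat.card X ≤ q ^ cq G m q := by
  obtain ⟨j, hj⟩ := IsPGroup.iff_card.1 hX
  rw [hj]
  refine Nat.pow_le_pow_right (Fact.out : q.Prime).pos ?_
  rw [← H.fac_cent Fact.out hqm hg, ← (Fact.out : q.Prime).pow_dvd_iff_le_factorization Nat.card_pos.ne', ← hj]
  exact Subgroup.card_dvd_of_le hle

theorem not_sylow_le {q : ℕ} [Fact q.Prime] (hqm : q ∣ m) {g : G} (hg : g ∉ Subgroup.center G)
    (Q : Sylow q G) : ¬ (Q : Subgroup G) ≤ cent g := fun hle => by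
  have h1 := H.card_le hqm hg Q.2 hle
  rw [Q.card_eq_multiplicity, Nat.pow_le_pow_iff_right (Fact.out : q.Prime).one_lt] at h1
  have := H.cq_add Fact.out hqm
  have := H.fac_pos Fact.out hqm
  omega

theorem center_sylow {q : ℕ} [Fact q.Prime] (hqm : q ∣ m) (Q : Sylow q G) {v : G}
    (h : ∀ x ∈ (Q : Subgroup G), x * v = v * x) : v ∈ Subgroup.center G := by
  by_contra hv
  exact H.not_sylow_le hqm hv Q fun x hx => mem_cent.2 (h x hx)

theorem exists_noncentral {q : ℕ} [Fact q.Prime] (hqm : q ∣ m) (Q : Sylow q G) :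
    ∃ u ∈ (Q : Subgroup G), u ∉ Subgroup.center G := by
  by_contra h
  push Not at h
  obtain ⟨g, hg⟩ := H.exists_m
  exact H.not_sylow_le hqm (H.m_notMem hg) Q fun x hx =>
    mem_cent.2 ((Subgroup.mem_center_iff.1 (h x hx)) g).symm

/-- Every centralizer contains a noncentral element of `q`-power order, `q ∣ m`. -/
theorem exists_noncentral_in {q : ℕ} [Fact q.Prime] (hqm : q ∣ m) {g : G} (hg : g ∉ Subgroup.center G) :
    ∃ u ∈ cent g, IsPow q u ∧ u ∉ Subgroup.center G := by
  obtain ⟨T, hT, hTp, hTc⟩ := H.sylow_in hqm hg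
  by_contra h
  push Not at h
  have hTZ : T ≤ Subgroup.center G := fun t ht => h t (hT ht) (isPow_of_mem hTp ht)
  obtain ⟨Q⟩ : Nonempty (Sylow q G) := inferInstance
  obtain ⟨v, hv, hvn⟩ := H.exists_noncentral hqm Q
  obtain ⟨k, hk⟩ := isPow_of_mem Q.2 hv
  have hle : T ⊔ Subgroup.zpowers v ≤ cent v :=
    sup_le (fun t ht => mem_cent.2 ((Subgroup.mem_center_iff.1 (hTZ ht)) v).symm)
      (Subgroup.zpowers_le.2 (self_mem_cent v))
  have hTn : T.Normal := ⟨fun t ht x => by
    rw [(Subgroup.mem_center_iff.1 (hTZ ht)) x, mul_inv_cancel_right]; exact ht⟩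
  have h1 := H.card_le hqm hvn
    (hTp.to_sup_of_normal_left (Solv.isPGroup_zpowers hk)) hle
  have h2 : T = T ⊔ Subgroup.zpowers v :=
    Subgroup.eq_of_le_of_card_ge le_sup_left (hTc ▸ h1)
  exact hvn (hTZ (h2 ▸ Subgroup.mem_sup_right (Subgroup.mem_zpowers v)))

theorem cent_le_of_mn {u v : G} (hu : cls u = m * n) (h : Commute u v)
    (hco : (orderOf u).Coprime (orderOf v)) : cent u ≤ cent v ∧ cls (u * v) = m * n := by
  have hle : cent (u * v) ≤ cent u := (cent_mul h hco).trans_le inf_le_left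
  have hge : cls u ≤ cls (u * v) := Nat.le_of_dvd (cls_pos _) (Subgroup.index_dvd_of_le hle)
  have h1 : cls (u * v) ≤ cls u := by
    rw [hu]; exact H.le_mn (mul_notMem_center h hco (H.mn_notMem hu))
  have he := eq_of_le_cls hle h1
  refine ⟨fun a ha => ?_, by rw [← hu]; exact le_antisymm h1 hge⟩
  rw [← he, cent_mul h hco] at ha
  exact (Subgroup.mem_inf.1 ha).2

/-- A noncentral element has a primary power of the same class size, if that is `m`. -/
theorem exists_primary {g : G} (hg : cls g = m) :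
    ∃ (r : ℕ) (x : G), r.Prime ∧ IsPow r x ∧ cls x = m := by
  induction hN : orderOf g using Nat.strong_induction_on generalizing g with
  | _ N ih =>
    subst hN
    have hg1 : orderOf g ≠ 1 := fun h => H.m_notMem hg (by
      rw [orderOf_eq_one_iff.1 h]; exact one_mem _)
    obtain ⟨r, hr, hrd⟩ := Nat.exists_prime_and_dvd hg1
    haveI := Fact.mk hr
    obtain ⟨a, b, ha, hb, hab, hak, hbk⟩ := Solv.exists_ppart r g
    by_cases haz : a ∈ Subgroup.center G
    · have hcb : cls b = m := by
        rw [← hg]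
        refine congrArg Subgroup.index (Subgroup.ext fun x => ?_)
        rw [mem_cent, mem_cent, ← hab]
        have hxa : x * a = a * x := Subgroup.mem_center_iff.1 haz x
        constructor
        · intro h
          rw [← mul_assoc, hxa, mul_assoc, h, mul_assoc]
        · intro h
          rw [← mul_assoc, hxa, mul_assoc, mul_assoc] at h
          exact mul_left_cancel h
      refine ih (orderOf b) ?_ hcb rfl
      have hd : orderOf b ∣ orderOf g := by
        obtain ⟨i, rfl⟩ := Subgroup.mem_zpowers_iff.1 hb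
        exact orderOf_dvd_of_pow_eq_one (by rw [← zpow_natCast, ← zpow_mul, mul_comm, zpow_mul,
          zpow_natCast, pow_orderOf_eq_one, one_zpow])
      refine lt_of_le_of_ne (Nat.le_of_dvd (orderOf_pos g) hd) fun e => ?_
      exact hr.ne_one (Nat.eq_one_of_dvd_coprimes hbk (e ▸ hrd) dvd_rfl)
    · refine ⟨r, a, hr, hak, ?_⟩
      have hd : cls a ∣ cls g := Subgroup.index_dvd_of_le fun x hx => by
        obtain ⟨i, rfl⟩ := Subgroup.mem_zpowers_iff.1 ha
        exact mem_cent.2 ((show Commute x g from mem_cent.1 hx).zpow_right i)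
      rw [hg] at hd
      exact Nat.dvd_antisymm hd (H.m_dvd haz)

/-- Without an abelian direct factor, only the prime divisors of `m n` divide the order. -/
theorem prime_dvd (hnodf : ∀ A B : Subgroup G, A.Normal → B.Normal → A ⊓ B = ⊥ → A ⊔ B = ⊤ →
    IsMulCommutative A → A = ⊥) {s : ℕ} (hs : s.Prime) (hsG : s ∣ Nat.card G) : s ∣ m * n := by
  haveI := Fact.mk hs
  by_contra hns
  obtain ⟨S⟩ : Nonempty (Sylow s G) := inferInstance
  have hcls : ∀ g : G, ¬ s ∣ cls g := fun g h => by
    rcases H.cases g with e | e | e <;> rw [e] at h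
    · exact hs.ne_one (Nat.dvd_one.1 h)
    · exact hns (h.mul_right n)
    · exact hns h
  have hcen : (S : Subgroup G) ≤ Subgroup.center G := by
    intro x hx
    have htop : Subgroup.centralizer ((S : Subgroup G) : Set G) = ⊤ := by
      refine Solv.eq_top_of_forall_conj_mem _ fun g => ?_
      obtain ⟨T⟩ : Nonempty (Sylow s (cent g)) := inferInstance
      have hTc : Nat.card ((T : Subgroup (cent g)).map (cent g).subtype) = Nat.card (S : Subgroup G) := by
        rw [Subgroup.card_subtype, T.card_eq_multiplicity, S.card_eq_multiplicity,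
          ← Subgroup.card_mul_index (cent g), Nat.factorization_mul Nat.card_pos.ne' (cls_pos g).ne',
          Finsupp.add_apply, Nat.factorization_eq_zero_of_not_dvd (hcls g), add_zero]
      obtain ⟨k, hk⟩ := IsPGroup.iff_card.1 (T.2.map (cent g).subtype)
      let R : Sylow s G := Sylow.ofCard ((T : Subgroup (cent g)).map (cent g).subtype)
        (by rw [hTc, S.card_eq_multiplicity])
      obtain ⟨c, hc⟩ := MulAction.exists_smul_eq G R S
      refine ⟨c, Subgroup.mem_centralizer_iff.2 fun w hw => ?_⟩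
      have hw' : w ∈ ((c • R : Sylow s G) : Subgroup G) := by rw [hc]; exact hw
      rw [Sylow.coe_subgroup_smul, Subgroup.mem_pointwise_smul_iff_inv_smul_mem] at hw'
      have h1 : c⁻¹ * w * c ∈ cent g := by
        have h2 : (MulAut.conj c)⁻¹ • w ∈ ((T : Subgroup (cent g)).map (cent g).subtype) := hw'
        rw [MulAut.smul_def, MulAut.conj_inv_apply] at h2
        exact Subgroup.map_subtype_le _ h2
      have h3 := mem_cent.1 h1
      calc w * (c * g * c⁻¹) = c * (c⁻¹ * w * c * g) * c⁻¹ := by group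
        _ = c * g * c⁻¹ * w := by rw [h3]; group
    rw [Subgroup.mem_center_iff]
    intro g
    exact ((Subgroup.mem_centralizer_iff.1 (htop ▸ Subgroup.mem_top g)) x hx).symm
  haveI hSn : (S : Subgroup G).Normal := ⟨fun x hx g => by
    rw [(Subgroup.mem_center_iff.1 (hcen hx)) g, mul_inv_cancel_right]; exact hx⟩
  have hcop : (Nat.card (S : Subgroup G)).Coprime (S : Subgroup G).index := by
    obtain ⟨k, hk⟩ := IsPGroup.iff_card.1 S.2
    rw [hk]
    exact (hs.coprime_iff_not_dvd.2 S.not_dvd_index).pow_left k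
  obtain ⟨N, hN⟩ := Subgroup.exists_right_complement'_of_coprime hcop
  have hNn : N.Normal := ⟨fun x hx g => by
    have hg : g ∈ (S : Subgroup G) ⊔ N := hN.sup_eq_top ▸ Subgroup.mem_top g
    obtain ⟨a, ha, b, hb, rfl⟩ := Subgroup.mem_sup_of_normal_left.1 hg
    have h1 : (a * b) * x * (a * b)⁻¹ = b * x * b⁻¹ := by
      have h2 := (Subgroup.mem_center_iff.1 (hcen ha)) (b * x * b⁻¹)
      calc (a * b) * x * (a * b)⁻¹ = a * (b * x * b⁻¹) * a⁻¹ := by group
        _ = b * x * b⁻¹ := by rw [← h2, mul_inv_cancel_right]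
    rw [h1]
    exact mul_mem (mul_mem hb hx) (inv_mem hb)⟩
  have hb := hnodf S N inferInstance hNn hN.disjoint.eq_bot hN.sup_eq_top
    ⟨⟨fun a b => Subtype.ext ((Subgroup.mem_center_iff.1 (hcen b.2)) a)⟩⟩
  have := S.dvd_card_of_dvd_card hsG
  rw [hb, Subgroup.card_bot] at this
  exact hs.ne_one (Nat.dvd_one.1 this)

end Hyp

end Cfsg.Agent.Perm.ThreeSizes
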