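import Cfsg.Agent.Lib.Perm.ThreeSizes.Tools

/-!
Groups with class sizes `1`, `m`, `m n`: `m` is a prime power.
-/

set_option autoImplicit false
set_option linter.style.haveILetI false
set_option linter.unusedSectionVars false

namespace Cfsg.Agent.Perm.ThreeSizes

open Cfsg.Agent.Perm.CoprimeSizes

universe u

variable {G : Type u} [Group G] [Finite G] {m n : ℕ}

namespace Hyp

variable (H : Hyp G m n)
include H

theorem squarefree_part {q t : ℕ} [Fact q.Prime] [ht : Fact t.Prime] (hqt : q ≠ t) (hqm : q ∣ m)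
    (htm : t ∣ m) : m.factorization q = 1 := by
  obtain ⟨Q⟩ : Nonempty (Sylow q G) := inferInstance
  obtain ⟨D⟩ := H.exists_zed hqm Q
  obtain ⟨W, hW, hWp, -⟩ := H.sylow_in htm D.notCenter
  -- all elements of `t`-power order of `C(z)`
  have hcen : ∀ s ∈ cent D.z, IsPow t s → ∀ g ∈ cent D.z, Commute g s := fun s hs hst g hg =>
    H.other_part_central hqt hqm htm D.isPow D.notCenter hs hst hg
  let B : Subgroup G := Subgroup.closure {s | s ∈ cent D.z ∧ IsPow t s}
  have hBK : B ≤ D.split.K := (Subgroup.closure_le _).2 fun s hs =>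
    D.split.K_mem s hs.1 (hs.2.coprime' ht.out Fact.out (Ne.symm hqt))
  have hBc : IsMulCommutative B := Subgroup.isMulCommutative_closure fun a ha b hb =>
    (hcen b hb.1 hb.2 a ha.1).eq
  obtain ⟨b, hb, hbt, hbn⟩ := H.exists_noncentral_in htm D.notCenter
  refine H.fac_eq_one hqm D hBc hBK (fun x hx => conj_mem_iff_normalizer fun y hy => ?_)
    (Subgroup.subset_closure ⟨hb, hbt⟩) hbn
  induction hy using Subgroup.closure_induction with
  | mem s hs => exact Subgroup.subset_closure ⟨D.conj_mem x hx s hs.1, hs.2.conj x⟩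
  | one => simp
  | mul a c _ _ ha hc => simpa [mul_assoc] using mul_mem ha hc
  | inv a _ ha => simpa [mul_assoc] using inv_mem ha

/-- Centralizers of commuting noncentral elements of `q`- and `t`-power order coincide. -/
theorem cent_eq {q t : ℕ} [hqf : Fact q.Prime] [ht : Fact t.Prime] (hqt : q ≠ t) (hqm : q ∣ m)
    (htm : t ∣ m) {u v : G} (hu : IsPow q u) (hun : u ∉ Subgroup.center G) (hv : IsPow t v)
    (hvn : v ∉ Subgroup.center G) (h : v ∈ cent u) : cent u = cent v := by
  have huv : u ∈ cent v := mem_cent_comm.1 h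
  exact le_antisymm (fun g hg => mem_cent.2 (H.other_part_central hqt hqm htm hu hun h hv hg).eq)
    (fun g hg => mem_cent.2 (H.other_part_central (Ne.symm hqt) htm hqm hv hvn huv hu hg).eq)

/-- With two primes dividing `m`, all elements of `r`-power order in `C(u)` are central there. -/
theorem part_central {q t : ℕ} [hqf : Fact q.Prime] [ht : Fact t.Prime] (hqt : q ≠ t) (hqm : q ∣ m)
    (htm : t ∣ m) {r : ℕ} [hr : Fact r.Prime] (hrm : r ∣ m) {u : G} (hu : IsPow q u)
    (hun : u ∉ Subgroup.center G) {s : G} (hs : s ∈ cent u) (hsr : IsPow r s) {g : G} (hg : g ∈ cent u) :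
    Commute g s := by
  by_cases hqr : q = r
  · subst hqr
    obtain ⟨y, hy, hyt, hyn⟩ := H.exists_noncentral_in htm hun
    have e := H.cent_eq hqt hqm htm hu hun hyt hyn hy
    rw [e] at hs hg
    exact H.other_part_central (Ne.symm hqt) htm hqm hyt hyn hs hsr hg
  · exact H.other_part_central hqr hqm hrm hu hun hs hsr hg

theorem cent_eq_of_mem {q t : ℕ} [hqf : Fact q.Prime] [ht : Fact t.Prime] (hqt : q ≠ t) (hqm : q ∣ m)
    (htm : t ∣ m) {u v : G} (hu : IsPow q u) (hun : u ∉ Subgroup.center G) (hv : IsPow q v)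
    (hvn : v ∉ Subgroup.center G) (h : v ∈ cent u) : cent u = cent v :=
  le_antisymm (fun g hg => mem_cent.2 (H.part_central hqt hqm htm hqm hu hun h hv hg).eq)
    (fun g hg => mem_cent.2 (H.part_central hqt hqm htm hqm hv hvn (mem_cent_comm.1 h) hu hg).eq)

/-- The normalizer of `C(u)` contains a Sylow `r`-subgroup for every prime `r ∣ m`. -/
theorem normalizer_full {q t : ℕ} [hqf : Fact q.Prime] [ht : Fact t.Prime] (hqt : q ≠ t) (hqm : q ∣ m)
    (htm : t ∣ m) {r : ℕ} [hr : Fact r.Prime] (hrm : r ∣ m) {u : G} (hu : IsPow q u)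
    (hun : u ∉ Subgroup.center G) :
    ∃ S : Sylow r G, (S : Subgroup G) ≤ Subgroup.normalizer (cent u : Set G) := by
  obtain ⟨v, hv, hvr, hvn⟩ := H.exists_noncentral_in hrm hun
  obtain ⟨s', hs', hrs, hsm⟩ : ∃ s' : ℕ, s'.Prime ∧ r ≠ s' ∧ s' ∣ m := by
    by_cases h : r = q
    · exact ⟨t, ht.out, h ▸ hqt, htm⟩
    · exact ⟨q, hqf.out, h, hqm⟩
  haveI := Fact.mk hs'
  have hv1 : m.factorization r = 1 := H.squarefree_part hrs hrm hsm
  have huv : cent u = cent v := by
    by_cases h : q = r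
    · subst h; exact H.cent_eq_of_mem hqt hqm htm hu hun hvr hvn hv
    · exact H.cent_eq h hqm hrm hu hun hvr hvn hv
  obtain ⟨D⟩ := H.split hrm hvr hvn
  obtain ⟨S, hTS, hSN⟩ := H.exists_sylow_normalizing hrm hv1 D.T_pgroup D.T_card
  refine ⟨S, fun g hg => conj_mem_iff_normalizer fun x hx => ?_⟩
  have hgv : g * v * g⁻¹ ∈ D.T :=
    (Subgroup.mem_normalizer_iff.1 (hSN hg) v).1 (self_mem_T D hvr)
  have e : cent v = cent (g * v * g⁻¹) :=
    H.cent_eq_of_mem hrs hrm hsm hvr hvn (hvr.conj g) (conj_notMem_center hvn g) (D.T_le hgv)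
  rw [huv, e]
  exact mem_cent_conj (huv ▸ hx)

/-- Only one prime divides `m`. -/
theorem single {q t : ℕ} [hqf : Fact q.Prime] [ht : Fact t.Prime] (hts : t < q) (hqm : q ∣ m)
    (htm : t ∣ m) : False := by
  classical
  have hqt : q ≠ t := (ne_of_lt hts).symm
  have hm0 : m ≠ 0 := (Nat.lt_of_succ_lt H.one_lt_m).ne'
  have hsq : ∀ r, r.Prime → r ∣ m → m.factorization r = 1 := fun r hr hrm => by
    haveI := Fact.mk hr
    by_cases h : r = q
    · subst h; exact H.squarefree_part hqt hqm htm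
    · exact H.squarefree_part h hrm hqm
  -- a normal subgroup `L` with a centralizer in it and the same `t`-part
  obtain ⟨L, hLn, u₀, hu₀, hu₀n, hu₀L, hLt⟩ : ∃ L : Subgroup G, L.Normal ∧ ∃ u₀ : G, IsPow q u₀ ∧
      u₀ ∉ Subgroup.center G ∧ cent u₀ ≤ L ∧ (Nat.card L).factorization t ≤ cq G m t := by
    have hN : ∀ u : G, IsPow q u → u ∉ Subgroup.center G → ∀ r, r.Prime → r ∣ m →
        (Nat.card (Subgroup.normalizer (cent u : Set G))).factorization r = (Nat.card G).factorization r := by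
      intro u hu hun r hr hrm
      haveI := Fact.mk hr
      obtain ⟨S, hS⟩ := H.normalizer_full hqt hqm htm hrm hu hun
      refine le_antisymm ((Nat.factorization_le_iff_dvd Nat.card_pos.ne' Nat.card_pos.ne').2
        (Subgroup.card_subgroup_dvd_card _) r) ?_
      rw [← hr.pow_dvd_iff_le_factorization Nat.card_pos.ne', ← S.card_eq_multiplicity]
      exact Subgroup.card_dvd_of_le hS
    by_cases hex : ∃ (r : ℕ) (x : G), r.Prime ∧ r ∣ m ∧ IsPow r x ∧ cls x = m
    · obtain ⟨r, x, hr, hrm, hx, hxm⟩ := hex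
      haveI := Fact.mk hr
      have hxn := H.m_notMem hxm
      obtain ⟨u, hu, huq, hun⟩ := H.exists_noncentral_in hqm hxn
      have e : cent u = cent x := by
        by_cases h : r = q
        · subst h; exact H.cent_eq_of_mem hqt hqm htm huq hun hx hxn (mem_cent_comm.1 hu)
        · exact H.cent_eq (Ne.symm h) hqm hrm huq hun hx hxn (mem_cent_comm.1 hu)
      refine ⟨cent u, ?_, u, huq, hun, le_rfl, H.fac_card_cent_le htm hun le_rfl⟩
      rw [← Subgroup.normalizer_eq_top_iff, ← Subgroup.index_eq_one]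
      set N := Subgroup.normalizer (cent u : Set G)
      have hNd : N.index ∣ m := by
        rw [← hxm]
        exact Subgroup.index_dvd_of_le (e ▸ Subgroup.le_normalizer)
      by_contra h1
      obtain ⟨r', hr', hrd⟩ := Nat.exists_prime_and_dvd h1
      have h2 := Subgroup.card_mul_index N
      have h3 := congrArg (fun k => k.factorization r') h2
      simp only [Nat.factorization_mul Nat.card_pos.ne' Subgroup.index_ne_zero_of_finite,
        Finsupp.add_apply] at h3
      have hN' : (Nat.card N).factorization r' = (Nat.card G).factorization r' :=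
        hN u huq hun r' hr' (hrd.trans hNd)
      have := hr'.factorization_pos_of_dvd Subgroup.index_ne_zero_of_finite hrd
      omega
    · push Not at hex
      obtain ⟨g, hg⟩ := H.exists_m
      obtain ⟨r, x, hr, hx, hxm⟩ := H.exists_primary hg
      have hrm : ¬ r ∣ m := fun h => hex r x hr h hx hxm
      have hxn := H.m_notMem hxm
      obtain ⟨u, hu, huq, hun⟩ := H.exists_noncentral_in hqm hxn
      have hum : cls u = m * n :=
        (H.noncentral hun).resolve_left (hex q u hqf.out hqm huq)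
      have hco : (orderOf u).Coprime (orderOf x) := by
        refine huq.coprime ?_
        exact hx.coprime' hr hqf.out fun h => hrm (h ▸ hqm)
      have hle : cent u ≤ cent x :=
        (H.cent_le_of_mn hum (mem_cent.1 hu) hco).1
      set N := Subgroup.normalizer (cent u : Set G) with hNdef
      have hrel : (cent x).relIndex N = (cent x).index := by
        have h1 : (cent x).relIndex N ≤ (cent x).index :=
          (Subgroup.relIndex_le_of_le_right (le_top : N ≤ ⊤) (by
            rw [Subgroup.relIndex_top_right]; exact Subgroup.index_ne_zero_of_finite)).trans (cent x).relIndex_top_right.le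
        refine le_antisymm h1 (Nat.le_of_dvd (Nat.pos_of_ne_zero Subgroup.index_ne_zero_of_finite) ?_)
        rw [show (cent x).index = m from hxm]
        unfold Subgroup.relIndex
        rw [← Nat.factorization_le_iff_dvd hm0 Subgroup.index_ne_zero_of_finite]
        intro r'
        by_cases hr'm : r' ∈ m.primeFactors
        · obtain ⟨hr', hr'd, -⟩ := Nat.mem_primeFactors.1 hr'm
          haveI := Fact.mk hr'
          have h2 := Subgroup.card_mul_index ((cent x).subgroupOf N)
          have h3 := congrArg (fun k => k.factorization r') h2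
          simp only [Nat.factorization_mul Nat.card_pos.ne' Subgroup.index_ne_zero_of_finite,
            Finsupp.add_apply] at h3
          have hN' : (Nat.card N).factorization r' = (Nat.card G).factorization r' :=
            hN u huq hun r' hr' hr'd
          have h4 := H.fac_card_cent_le hr'd hxn (inf_le_left : cent x ⊓ N ≤ cent x)
          rw [← Nat.card_congr (Subgroup.subgroupOfEquivOfLe (inf_le_right : cent x ⊓ N ≤ N)).toEquiv,
            Subgroup.inf_subgroupOf_right] at h4
          have h5 := H.cq_add hr' hr'd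
          show m.factorization r' ≤ ((cent x).subgroupOf N).index.factorization r'
          omega
        · rw [Finsupp.notMem_support_iff.1 (Nat.support_factorization m ▸ hr'm)]
          exact Nat.zero_le _
      have hsurj : ∀ g : G, ∃ a ∈ N, a⁻¹ * g ∈ cent x := by
        have hb : Function.Bijective (fun a : N ⧸ (cent x).subgroupOf N =>
            Quotient.map' (Subtype.val : N → G) (fun a b h => by
              rw [QuotientGroup.leftRel_apply] at h ⊢; exact h) a : N ⧸ (cent x).subgroupOf N → G ⧸ cent x) := by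
          rw [Nat.bijective_iff_injective_and_card]
          refine ⟨fun a b => Quotient.inductionOn₂' a b fun a b h => ?_, hrel⟩
          refine Quotient.sound' ?_
          rw [QuotientGroup.leftRel_apply, Subgroup.mem_subgroupOf, Subgroup.coe_mul, Subgroup.coe_inv]
          exact QuotientGroup.eq.1 h
        intro g
        obtain ⟨a, ha⟩ := hb.2 (QuotientGroup.mk g)
        induction a using Quotient.inductionOn' with
        | h a => exact ⟨a, a.2, QuotientGroup.leftRel_apply.1 (Quotient.exact' ha)⟩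
      refine ⟨(cent x).normalCore, inferInstance, u, huq, hun, H.le_core fun g t ht => ?_,
        H.fac_card_cent_le htm hxn (Subgroup.normalCore_le _)⟩
      obtain ⟨a, ha, hag⟩ := hsurj g
      have h6 : g * x * g⁻¹ = a * x * a⁻¹ := by
        calc g * x * g⁻¹ = a * ((a⁻¹ * g) * x) * (a⁻¹ * g)⁻¹ * a⁻¹ := by group
          _ = a * (x * (a⁻¹ * g)) * (a⁻¹ * g)⁻¹ * a⁻¹ := by rw [mem_cent.1 hag]
          _ = a * x * a⁻¹ := by group
      rw [h6]
      have h7 : a⁻¹ * t * a ∈ cent u := by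
        have := (Subgroup.mem_normalizer_iff.1 (inv_mem ha) t).1 ht
        rwa [inv_inv] at this
      have h8 := mem_cent_conj (x := a) (hle h7)
      rwa [show a * (a⁻¹ * t * a) * a⁻¹ = t by group] at h8
  haveI := hLn
  have hZL : Subgroup.center G ≤ L := fun z hz =>
    hu₀L (mem_cent.2 ((Subgroup.mem_center_iff.1 hz) u₀).symm)
  have hv1 := hsq t ht.out htm
  have hcq := H.cq_add ht.out htm
  -- a Sylow `t`-subgroup meets `L` in an abelian subgroup of index `t`
  obtain ⟨W, hWle, hWp, hWc⟩ := H.sylow_in htm hu₀n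
  obtain ⟨S, hS⟩ := hWp.exists_le_sylow
  have hWL : W ≤ L := hWle.trans hu₀L
  have hWSL : W = (S : Subgroup G) ⊓ L := by
    refine Subgroup.eq_of_le_of_card_ge (le_inf hS hWL) ?_
    obtain ⟨j, hj⟩ := IsPGroup.iff_card.1 (S.2.to_le (inf_le_left : (S : Subgroup G) ⊓ L ≤ S))
    rw [hj, hWc]
    refine Nat.pow_le_pow_right ht.out.pos ?_
    have h1 := (Nat.factorization_le_iff_dvd Nat.card_pos.ne' Nat.card_pos.ne').2
      (Subgroup.card_dvd_of_le (inf_le_right : (S : Subgroup G) ⊓ L ≤ L)) t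
    rw [hj, Nat.factorization_pow, Finsupp.smul_apply, ht.out.factorization_self, smul_eq_mul, mul_one] at h1
    omega
  have hSc : Nat.card (S : Subgroup G) = t ^ (cq G m t + 1) := by
    rw [S.card_eq_multiplicity, ← hcq, hv1]
  obtain ⟨u', hu'S, hu'W⟩ : ∃ u' ∈ (S : Subgroup G), u' ∉ W := by
    by_contra h
    push Not at h
    have h1 := Subgroup.card_le_of_le (show (S : Subgroup G) ≤ W from h)
    rw [hSc, hWc, Nat.pow_le_pow_iff_right ht.out.one_lt] at h1
    omega
  have hu'L : u' ∉ L := fun h => hu'W (hWSL ▸ Subgroup.mem_inf.2 ⟨hu'S, h⟩)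
  have hu'n : u' ∉ Subgroup.center G := fun h => hu'L (hZL h)
  have hu't : IsPow t u' := isPow_of_mem S.2 hu'S
  obtain ⟨D'⟩ := H.split htm hu't hu'n
  obtain ⟨S', hS'⟩ := D'.T_pgroup.exists_le_sylow
  obtain ⟨g, hg⟩ := MulAction.exists_smul_eq G S' S
  set W' := D'.T.map (MulAut.conj g).toMonoidHom with hW'
  have hW'S : W' ≤ (S : Subgroup G) := by
    rw [← hg, Sylow.coe_subgroup_smul]
    exact Subgroup.map_mono hS'
  have hW'c : Nat.card W' = t ^ cq G m t := by
    rw [hW', Subgroup.card_map_of_injective (MulEquiv.injective _), D'.T_card]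
  have hgu' : g * u' * g⁻¹ ∈ W' := Subgroup.mem_map.2 ⟨u', self_mem_T D' hu't, rfl⟩
  have hgu'W : g * u' * g⁻¹ ∉ W := fun h => hu'L (by
    have := hLn.conj_mem _ (hWL h) g⁻¹
    simpa [mul_assoc] using this)
  have hWab : ∀ a ∈ W, ∀ b ∈ W, Commute a b := fun a ha b hb =>
    H.part_central hqt hqm htm htm hu₀ hu₀n (hWle hb) (isPow_of_mem hWp hb) (hWle ha)
  have hW'ab : ∀ a ∈ W', ∀ b ∈ W', Commute a b := by
    rintro _ ⟨a, ha, rfl⟩ _ ⟨b, hb, rfl⟩
    exact (H.part_central (Ne.symm hqt) htm hqm htm hu't hu'n (D'.T_le hb)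
      (isPow_of_mem D'.T_pgroup hb) (D'.T_le ha)).map (MulAut.conj g).toMonoidHom
  have hsup : W ⊔ W' = (S : Subgroup G) := by
    refine Subgroup.eq_of_le_of_card_ge (sup_le hS hW'S) ?_
    obtain ⟨j, hj⟩ := IsPGroup.iff_card.1 (S.2.to_le (sup_le hS hW'S))
    have h1 : Nat.card W < Nat.card (W ⊔ W' : Subgroup G) :=
      lt_of_not_ge fun h => hgu'W
        ((Subgroup.eq_of_le_of_card_ge le_sup_left h).symm ▸ Subgroup.mem_sup_right hgu')
    rw [hWc, hj, Nat.pow_lt_pow_iff_right ht.out.one_lt] at h1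
    rw [hSc, hj]
    exact Nat.pow_le_pow_right ht.out.pos h1
  have hI : W ⊓ W' ≤ Subgroup.center G := by
    intro a ha
    obtain ⟨ha1, ha2⟩ := Subgroup.mem_inf.1 ha
    refine H.center_sylow htm S fun x hx => ?_
    have : (S : Subgroup G) ≤ cent a := hsup ▸ sup_le (fun y hy => mem_cent.2 (hWab y hy a ha1).eq)
      (fun y hy => mem_cent.2 (hW'ab y hy a ha2).eq)
    exact mem_cent.1 (this hx)
  have hIc : t ^ cq G m t ≤ Nat.card (W ⊓ W' : Subgroup G) * t := by
    have h1 := Nat.card_le_card_of_injective _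
      (Subgroup.quotientSubgroupOfEmbeddingOfLE W' hS).injective
    have h2 := Subgroup.card_mul_index (W'.subgroupOf (S : Subgroup G))
    rw [Nat.card_congr (Subgroup.subgroupOfEquivOfLe hW'S).toEquiv, hW'c, hSc, pow_succ] at h2
    rw [← Subgroup.index_eq_card, ← Subgroup.index_eq_card,
      Nat.eq_of_mul_eq_mul_left (pow_pos ht.out.pos _) h2] at h1
    have h3 := Subgroup.card_mul_index (W'.subgroupOf W)
    rw [hWc, ← Subgroup.inf_subgroupOf_right W' W,
      Nat.card_congr (Subgroup.subgroupOfEquivOfLe (inf_le_right : W' ⊓ W ≤ W)).toEquiv, inf_comm] at h3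
    rw [← h3]
    exact Nat.mul_le_mul_left _ (by rw [inf_comm W W', Subgroup.inf_subgroupOf_right]; exact h1)
  -- now the `t`-part of `C(z)` for a Sylow `q`-subgroup
  obtain ⟨Q⟩ : Nonempty (Sylow q G) := inferInstance
  obtain ⟨D⟩ := H.exists_zed hqm Q
  obtain ⟨X, hXle, hXp, hXc⟩ := H.sylow_in htm D.notCenter
  obtain ⟨y, hy, hyt, hyn⟩ := H.exists_noncentral_in htm D.notCenter
  have hXmem : ∀ s ∈ cent D.z, IsPow t s → s ∈ X := by
    intro s hs hst
    have hn : X.Normal ∨ True := Or.inr trivial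
    have hsX : ∀ x ∈ X, Commute x s := fun x hx =>
      H.other_part_central hqt hqm htm D.isPow D.notCenter hs hst (hXle hx)
    have hp : IsPGroup t (X ⊔ Subgroup.zpowers s : Subgroup G) :=
      hXp.to_sup_of_normal_left' (isPow_of_isPGroup_zpowers hst) (Subgroup.zpowers_le.2
        (conj_mem_iff_normalizer fun x hx => by rw [← (hsX x hx).eq, mul_inv_cancel_right]; exact hx))
    exact (Subgroup.eq_of_le_of_card_ge (le_sup_left : X ≤ X ⊔ Subgroup.zpowers s)
      (hXc ▸ H.card_le htm D.notCenter hp (sup_le hXle (Subgroup.zpowers_le.2 hs)))) ▸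
      Subgroup.mem_sup_right (Subgroup.mem_zpowers s)
  haveI hXab : IsMulCommutative X := ⟨⟨fun a b => Subtype.ext
    (H.other_part_central hqt hqm htm D.isPow D.notCenter (hXle b.2) (isPow_of_mem hXp b.2) (hXle a.2)).eq⟩⟩
  set Z0 := (Subgroup.center G).subgroupOf X with hZ0
  haveI : Z0.Normal := (inferInstance : (Subgroup.center G).Normal).subgroupOf X
  have hIX : W ⊓ W' ≤ Subgroup.center G ⊓ X := le_inf hI fun a ha => hXmem a
    (mem_cent.2 ((Subgroup.mem_center_iff.1 (hI ha)) D.z).symm)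
    (isPow_of_mem hWp (Subgroup.mem_inf.1 ha).1)
  have hidx : Z0.index ≤ t := by
    have h2 := Subgroup.card_mul_index Z0
    rw [hXc, hZ0, ← Subgroup.inf_subgroupOf_right,
      Nat.card_congr (Subgroup.subgroupOfEquivOfLe (inf_le_right : Subgroup.center G ⊓ X ≤ X)).toEquiv,
      Subgroup.inf_subgroupOf_right, ← hZ0] at h2
    refine Nat.le_of_mul_le_mul_left ?_ (Nat.card_pos (α := (Subgroup.center G ⊓ X : Subgroup G)))
    rw [h2]
    exact hIc.trans (Nat.mul_le_mul_right _ (Subgroup.card_le_of_le hIX))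
  -- `σ ∈ Q` acts on `X / (X ∩ Z(G))`, of order `t < q`
  obtain ⟨σ, hσ, hσT⟩ : ∃ x ∈ (Q : Subgroup G), x ∉ D.split.T := by
    by_contra h
    push Not at h
    have h1 := Subgroup.card_le_of_le (show (Q : Subgroup G) ≤ D.split.T from h)
    rw [Q.card_eq_multiplicity, D.split.T_card, Nat.pow_le_pow_iff_right hqf.out.one_lt] at h1
    have := H.cq_add hqf.out hqm
    have := H.fac_pos hqf.out hqm
    omega
  have hyX : y ∈ X := hXmem y hy hyt
  have hTy : D.split.T ≤ cent y := fun a ha =>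
    mem_cent.2 (H.other_part_central hqt hqm htm D.isPow D.notCenter hy hyt (D.split.T_le ha)).eq
  have hTQ : D.split.T ≤ (Q : Subgroup G) := by rw [D.T_eq]; exact inf_le_left
  have hσy := H.notMem_cent hqm hyn D.split.T_card Q.2 hTQ hTy hσ hσT
  have hσX : ∀ x ∈ X, σ * x * σ⁻¹ ∈ X := fun x hx =>
    hXmem _ (D.conj_mem σ hσ x (hXle hx)) ((isPow_of_mem hXp hx).conj σ)
  -- `t - 1` is prime to `q`
  have hyZ : (⟨y, hyX⟩ : X) ∉ Z0 := fun h => hyn (Subgroup.mem_subgroupOf.1 h)
  set yb : X ⧸ Z0 := QuotientGroup.mk ⟨y, hyX⟩ with hyb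
  have hyb1 : yb ≠ 1 := fun h => hyZ ((QuotientGroup.eq_one_iff _).1 h)
  have hcard : Nat.card (X ⧸ Z0) = t := by
    rw [← Subgroup.index_eq_card]
    refine le_antisymm hidx ?_
    obtain ⟨j, hj⟩ := IsPGroup.iff_card.1 (hXp.to_quotient Z0)
    haveI : Nontrivial (X ⧸ Z0) := ⟨⟨yb, 1, hyb1⟩⟩
    have h1 := Finite.one_lt_card (α := X ⧸ Z0)
    rw [← Subgroup.index_eq_card] at hj h1
    rw [hj] at h1 ⊢
    exact Nat.le_self_pow (fun e => by rw [e, pow_zero] at h1; exact lt_irrefl 1 h1) t
  let f : X →* X :=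
    { toFun := fun x => ⟨σ * x * σ⁻¹, hσX x x.2⟩
      map_one' := Subtype.ext (by show σ * (1 : G) * σ⁻¹ = 1; group)
      map_mul' := fun a b => Subtype.ext (by
        show σ * ((a : G) * b) * σ⁻¹ = σ * a * σ⁻¹ * (σ * b * σ⁻¹); group) }
  let F : (X ⧸ Z0) →* (X ⧸ Z0) := QuotientGroup.map Z0 Z0 f fun x hx => by
    rw [Subgroup.mem_comap, Subgroup.mem_subgroupOf] at *
    exact (inferInstance : (Subgroup.center G).Normal).conj_mem _ hx σ
  obtain ⟨i, hi⟩ := Subgroup.mem_zpowers_iff.1
    (mem_zpowers_of_prime_card hcard (g := yb) (g' := F yb) hyb1)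
  have hiter : ∀ j : ℕ, (QuotientGroup.mk (f^[j] ⟨y, hyX⟩) : X ⧸ Z0) = yb ^ (i ^ j) := by
    intro j
    induction j with
    | zero => rw [pow_zero, zpow_one]; rfl
    | succ j ih =>
      rw [Function.iterate_succ_apply']
      show F (QuotientGroup.mk (f^[j] ⟨y, hyX⟩)) = _
      rw [ih, map_zpow, ← hi, ← zpow_mul, pow_succ']
  have hfj : ∀ j : ℕ, ((f^[j] ⟨y, hyX⟩ : X) : G) = σ ^ j * y * (σ ^ j)⁻¹ := by
    intro j
    induction j with
    | zero => simp
    | succ j ih =>
      rw [Function.iterate_succ_apply']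
      show σ * ((f^[j] ⟨y, hyX⟩ : X) : G) * σ⁻¹ = _
      rw [ih, pow_succ']; group
  have hq1 : yb ^ (i ^ q) = yb := by
    rw [← hiter, hyb]
    congr 1
    refine Subtype.ext ?_
    rw [hfj]
    show σ ^ q * y * (σ ^ q)⁻¹ = y
    rw [mem_cent.1 (hTy (D.pow_mem σ hσ)), mul_inv_cancel_right]
  have hord : orderOf yb = t :=
    ((Nat.dvd_prime ht.out).1 (hcard ▸ orderOf_dvd_natCard yb)).resolve_left
      fun h => hyb1 (orderOf_eq_one_iff.1 h)
  have hiq : ((i : ZMod t)) ^ q = 1 := by
    have h1 : yb ^ (i ^ q - 1) = 1 := by rw [zpow_sub, zpow_one, hq1, mul_inv_cancel]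
    rw [← orderOf_dvd_iff_zpow_eq_one, hord] at h1
    have h2 := (ZMod.intCast_zmod_eq_zero_iff_dvd _ t).2 h1
    push_cast at h2
    exact sub_eq_zero.1 h2
  have hi1 : (i : ZMod t) = 1 := by
    have hne : (i : ZMod t) ≠ 0 := fun h => by
      rw [h, zero_pow hqf.out.ne_zero] at hiq
      exact zero_ne_one hiq
    have h2 : (i : ZMod t) ^ (q.gcd (t - 1)) = 1 := pow_gcd_eq_one.2 ⟨hiq, ZMod.pow_card_sub_one_eq_one hne⟩
    have hg : q.gcd (t - 1) = 1 := (hqf.out.coprime_iff_not_dvd.2 fun h => by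
      have := ht.out.two_le
      have := Nat.le_of_dvd (by omega) h
      omega)
    rwa [hg, pow_one] at h2
  have hFy : F yb = yb := by
    rw [← hi, ← mul_inv_eq_one, ← zpow_sub_one, ← orderOf_dvd_iff_zpow_eq_one, hord,
      ← ZMod.intCast_zmod_eq_zero_iff_dvd]
    push_cast
    rw [hi1, sub_self]
  set ζ : G := y⁻¹ * (σ * y * σ⁻¹) with hζ
  have hζc : ζ ∈ Subgroup.center G := by
    have h1 : (QuotientGroup.mk (f ⟨y, hyX⟩) : X ⧸ Z0) = QuotientGroup.mk ⟨y, hyX⟩ := hFy
    exact Subgroup.mem_subgroupOf.1 (QuotientGroup.eq.1 h1.symm)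
  have hσj : ∀ j : ℕ, σ ^ j * y * (σ ^ j)⁻¹ = y * ζ ^ j := by
    intro j
    induction j with
    | zero => simp
    | succ j ih =>
      have hc := Subgroup.mem_center_iff.1 (pow_mem hζc j) σ
      calc σ ^ (j + 1) * y * (σ ^ (j + 1))⁻¹ = σ * (σ ^ j * y * (σ ^ j)⁻¹) * σ⁻¹ := by
            rw [pow_succ']; group
        _ = σ * y * (ζ ^ j * σ⁻¹) := by rw [ih]; group
        _ = σ * y * σ⁻¹ * ζ ^ j := by
            rw [← Subgroup.mem_center_iff.1 (pow_mem hζc j) σ⁻¹]; group
        _ = y * ζ ^ (j + 1) := by rw [pow_succ', hζ, ← mul_assoc y, mul_inv_cancel_left]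
  have hζq : ζ ^ q = 1 := by
    have h1 := hσj q
    rw [mem_cent.1 (hTy (D.pow_mem σ hσ)), mul_inv_cancel_right] at h1
    exact mul_eq_left.1 h1.symm
  have hζt : IsPow t ζ := isPow_of_mem hXp (mul_mem (inv_mem hyX) (hσX y hyX))
  have hζ1 : ζ = 1 := hζt.eq_one (Nat.Coprime.coprime_dvd_left (orderOf_dvd_of_pow_eq_one hζq)
    ((Nat.coprime_primes hqf.out ht.out).2 hqt))
  refine hσy (mem_cent.2 ?_)
  have h9 := inv_mul_eq_one.1 hζ1
  exact mul_inv_eq_iff_eq_mul.1 h9.symm

theorem exists_prime_pow : ∃ q a : ℕ, q.Prime ∧ 1 ≤ a ∧ m = q ^ a := by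
  have hq : (m.minFac).Prime := Nat.minFac_prime (ne_of_gt H.one_lt_m)
  haveI := Fact.mk hq
  have hm0 : m ≠ 0 := (Nat.lt_of_succ_lt H.one_lt_m).ne'
  refine ⟨m.minFac, m.factorization m.minFac, hq, H.fac_pos hq (Nat.minFac_dvd m),
    Nat.eq_of_factorization_eq hm0 (pow_ne_zero _ hq.ne_zero) fun r => ?_⟩
  rw [Nat.factorization_pow, Finsupp.smul_apply, hq.factorization, smul_eq_mul, Finsupp.single_apply]
  by_cases h : m.minFac = r
  · rw [if_pos h, mul_one, h]
  rw [if_neg h, mul_zero]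
  by_contra hne
  have hr : r ∈ m.primeFactors := Nat.support_factorization m ▸ Finsupp.mem_support_iff.2 hne
  obtain ⟨hr', hrd, -⟩ := Nat.mem_primeFactors.1 hr
  haveI := Fact.mk hr'
  exact H.single (lt_of_le_of_ne (Nat.minFac_le_of_dvd hr'.two_le hrd) h) hrd (Nat.minFac_dvd m)

end Hyp

end Cfsg.Agent.Perm.ThreeSizes
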