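import Cfsg.Agent.Lib.Perm.ThreeSizes.Basic
import Mathlib.Algebra.BigOperators.Group.Finset.Basic
import Mathlib.Data.ZMod.Basic
import Mathlib.Algebra.Field.ZMod

/-!
The norm identity for two commuting automorphisms of prime period on an abelian group.
-/

set_option autoImplicit false
set_option linter.style.haveILetI false

namespace Cfsg.Agent.Perm.ThreeSizes

open Finset

universe u

variable {B : Type u} [CommGroup B] {p : ℕ} [hp : Fact p.Prime]

/-- The product of the translates of `b` under the powers of `A`. -/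
def norm (p : ℕ) [NeZero p] (A : Monoid.End B) (b : B) : B := ∏ i : ZMod p, (A ^ i.val) b

theorem pow_val_eq {A : Monoid.End B} (hA : A ^ p = 1) (k : ℕ) : A ^ ((k : ZMod p).val) = A ^ k := by
  conv_rhs => rw [← Nat.mod_add_div k p, pow_add, pow_mul, hA, one_pow, mul_one]
  rw [ZMod.val_natCast]

theorem apply_norm {A : Monoid.End B} (hA : A ^ p = 1) (b : B) : A (norm p A b) = norm p A b := by
  rw [norm, map_prod]
  refine Fintype.prod_equiv (Equiv.addLeft (1 : ZMod p)) _ _ fun i => ?_
  show A ((A ^ i.val) b) = (A ^ ((1 : ZMod p) + i).val) b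
  rw [show ((1 : ZMod p) + i) = ((1 + i.val : ℕ) : ZMod p) by push_cast [ZMod.natCast_zmod_val]; rfl,
    pow_val_eq hA, pow_add, pow_one]
  rfl

theorem norm_identity {A₁ A₂ : Monoid.End B} (hc : Commute A₂ A₁) (h1 : A₁ ^ p = 1) (b : B) :
    ∏ j : ZMod p, norm p (A₂ * A₁ ^ j.val) b =
      b ^ p * ∏ i ∈ (univ : Finset (ZMod p)).erase 0, (A₂ ^ i.val) (norm p A₁ b) := by
  unfold norm
  rw [prod_comm, ← mul_prod_erase univ _ (mem_univ (0 : ZMod p))]
  congr 1
  · simp [ZMod.card]
  · refine prod_congr rfl fun i hi => ?_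
    rw [map_prod]
    refine Fintype.prod_equiv (Equiv.mulRight₀ i (Finset.ne_of_mem_erase hi)) _ _ fun j => ?_
    show ((A₂ * A₁ ^ j.val) ^ i.val) b = (A₂ ^ i.val) ((A₁ ^ (j * i).val) b)
    rw [(hc.pow_right j.val).mul_pow, ← pow_mul,
      show (j * i) = ((j.val * i.val : ℕ) : ZMod p) by push_cast [ZMod.natCast_zmod_val]; rfl,
      pow_val_eq h1]
    rfl

end Cfsg.Agent.Perm.ThreeSizes
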