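import Cfsg.Agent.Lib.Perm.ThreeSizes.Tools
import Cfsg.Agent.Lib.Solv.Cores
import Cfsg.Agent.Lib.Solv.ClassPow
import Cfsg.Agent.Lib.Fusion.AB

/-!
Groups with class sizes `1`, `m`, `m n`, `m` a power of a prime `q`: the normal `q`-complement.
-/

set_option autoImplicit false
set_option linter.style.haveILetI false
set_option linter.unusedSectionVars false

namespace Cfsg.Agent.Perm.ThreeSizes

open Cfsg.Agent.Perm.CoprimeSizes

universe u

variable {G : Type u} [Group G] [Finite G] {m n q a : ℕ}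

namespace Hyp

variable (H : Hyp G m n)
include H

theorem card_mul_of_cls [hqf : Fact q.Prime] (hma : m = q ^ a) (ha : 1 ≤ a) {u : G} (D : Split q (cq G m q) u)
    {e : ℕ} (he : cls u = m * e) :
    Nat.card D.K * q ^ (Nat.card G).factorization q * e = Nat.card G := by
  have hqm : q ∣ m := hma ▸ dvd_pow_self q (Nat.one_le_iff_ne_zero.1 ha)
  have hf : m.factorization q = a := by rw [hma, hqf.out.factorization_pow, Finsupp.single_eq_same]
  have h2 := Subgroup.card_mul_index (cent u)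
  rw [← D.card, D.T_card, show (cent u).index = m * e from he] at h2
  rw [← H.cq_add hqf.out hqm, hf, pow_add]
  refine Eq.trans ?_ h2
  generalize q ^ cq G m q = c
  rw [← hma]
  ring

/-- A subgroup of order prime to `q` and index a power of `q`, normalised by a Sylow subgroup. -/
theorem normal_of_normalized [hqf : Fact q.Prime] {K : Subgroup G} (hK : (Nat.card K).Coprime q)
    (hKc : Nat.card K * q ^ (Nat.card G).factorization q = Nat.card G) (S : Sylow q G)
    (hS : (S : Subgroup G) ≤ Subgroup.normalizer (K : Set G)) : K.Normal := by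
  rw [← Subgroup.normalizer_eq_top_iff]
  refine Subgroup.eq_top_of_le_card _ (Nat.le_of_dvd Nat.card_pos ?_)
  rw [← hKc]
  refine Nat.Coprime.mul_dvd_of_dvd_of_dvd (hK.pow_right _) (Subgroup.card_dvd_of_le Subgroup.le_normalizer) ?_
  rw [← S.card_eq_multiplicity]
  exact Subgroup.card_dvd_of_le hS

/-- The goal: a normal `q`-complement. -/
theorem exists_complement [hqf : Fact q.Prime] (hma : m = q ^ a) (ha : 1 ≤ a) :
    ∃ K : Subgroup G, K.Normal ∧ (Nat.card K).Coprime q ∧
      Nat.card K * q ^ (Nat.card G).factorization q = Nat.card G := by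
  classical
  have hq : q.Prime := hqf.out
  have hqm : q ∣ m := hma ▸ dvd_pow_self q (Nat.one_le_iff_ne_zero.1 ha)
  have hfa : m.factorization q = a := by rw [hma, hq.factorization_pow, Finsupp.single_eq_same]
  have hn0 : 0 < n := Nat.lt_of_succ_lt H.one_lt_n
  have hfull : ∀ u : G, cls u = m → ∀ D : Split q (cq G m q) u,
      Nat.card D.K * q ^ (Nat.card G).factorization q = Nat.card G := fun u hu D => by
    have := H.card_mul_of_cls hma ha D (e := 1) (by rw [hu, mul_one])
    rwa [mul_one] at this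
  obtain ⟨Q⟩ : Nonempty (Sylow q G) := inferInstance
  obtain ⟨Z⟩ := H.exists_zed hqm Q
  have hQK : (Q : Subgroup G) ≤ Subgroup.normalizer (Z.split.K : Set G) := fun x hx =>
    conj_mem_iff_normalizer fun k hk => Z.split.K_mem _ (Z.conj_mem x hx k (Z.split.K_le hk)) (by
      rw [← MulAut.conj_apply, MulEquiv.orderOf_eq]; exact coprime_orderOf_of_mem Z.split.K_coprime hk)
  rcases H.noncentral Z.notCenter with hz | hz
  · exact ⟨_, H.normal_of_normalized Z.split.K_coprime (hfull _ hz Z.split) Q hQK, Z.split.K_coprime,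
      hfull _ hz Z.split⟩
  -- now `C(z)` has the smallest order, with abelian `q'`-part
  have habel : ∀ (u : G), IsPow q u → cls u = m * n → ∀ D : Split q (cq G m q) u,
      (∀ k ∈ D.K, ∀ g ∈ cent u, Commute g k) ∧ Nat.card D.K = Nat.card Z.split.K := by
    intro u hu hum D
    refine ⟨fun k hk g hg => ?_, ?_⟩
    · exact mem_cent.1 ((H.cent_le_of_mn hum (mem_cent.1 (D.K_le hk)).symm
        (hu.coprime (coprime_orderOf_of_mem D.K_coprime hk))).1 hg)
    · have h1 := H.card_mul_of_cls hma ha D hum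
      exact Nat.eq_of_mul_eq_mul_right (pow_pos hq.pos _) (Nat.eq_of_mul_eq_mul_right hn0
        (h1.trans (H.card_mul_of_cls hma ha Z.split hz).symm))
  obtain ⟨hKc, -⟩ := habel Z.z Z.isPow hz Z.split
  haveI hKab : IsMulCommutative Z.split.K := ⟨⟨fun x y => Subtype.ext
    (hKc y y.2 x (Z.split.K_le x.2)).eq⟩⟩
  -- every central `q'`-element lies in `K`
  have hZK : ∀ c ∈ Subgroup.center G, (orderOf c).Coprime q → c ∈ Z.split.K := fun c hc hco =>
    Z.split.K_mem c (mem_cent.2 ((Subgroup.mem_center_iff.1 hc) Z.z).symm) hco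
  by_cases hKZ : Z.split.K ≤ Subgroup.center G
  · -- degenerate case
    have hmn_central : ∀ g : G, cls g = m * n → ∀ h ∈ cent g, (orderOf h).Coprime q →
        h ∈ Subgroup.center G := by
      intro g hg h hh hco
      by_contra hhn
      set J := Z.split.K ⊔ Subgroup.zpowers h with hJ
      have hJle : J ≤ cent g := sup_le (fun k hk => mem_cent.2 ((Subgroup.mem_center_iff.1 (hKZ hk)) g).symm)
        (Subgroup.zpowers_le.2 hh)
      have hKn : Z.split.K.Normal := ⟨fun k hk x => by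
        rw [(Subgroup.mem_center_iff.1 (hKZ hk)) x, mul_inv_cancel_right]; exact hk⟩
      have hJco : (Nat.card J).Coprime q := by
        refine Nat.Coprime.coprime_dvd_left (Solv.card_sup_dvd Z.split.K (Subgroup.zpowers h))
          (Nat.Coprime.mul_left Z.split.K_coprime ?_)
        rw [Nat.card_zpowers]; exact hco
      have h1 : Nat.card J ∣ Nat.card Z.split.K := by
        refine (hJco.pow_right (cq G m q)).dvd_of_dvd_mul_left ?_
        have h3 : Nat.card (cent g) = q ^ cq G m q * Nat.card Z.split.K := by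
          refine Nat.eq_of_mul_eq_mul_right (cls_pos g) ?_
          conv_lhs => rw [show cls g = (cent g).index from rfl, Subgroup.card_mul_index]
          rw [hg, ← H.card_mul_of_cls hma ha Z.split hz, ← H.cq_add hq hqm, hfa, pow_add, ← hma]
          ring
        rw [← h3]
        exact Subgroup.card_dvd_of_le hJle
      exact hhn (hKZ ((Subgroup.eq_of_le_of_card_ge (le_sup_left : Z.split.K ≤ J)
        (Nat.le_of_dvd Nat.card_pos h1)) ▸ Subgroup.mem_sup_right (Subgroup.mem_zpowers h)))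
    have hpair : ∀ u h : G, IsPow q u → u ∉ Subgroup.center G → (orderOf h).Coprime q →
        h ∉ Subgroup.center G → Commute u h → cls u = m ∧ cent u = cent h := by
      intro u h hu hun hh hhn hc
      have hn' := mul_notMem_center hc (hu.coprime hh) hun
      have huh : cls (u * h) = m := (H.noncentral hn').resolve_right fun e =>
        hhn (hmn_central _ e h (by
          rw [cent_mul hc (hu.coprime hh)]
          exact Subgroup.mem_inf.2 ⟨mem_cent.2 hc.symm.eq, self_mem_cent h⟩) hh)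
      have h1 : cent (u * h) = cent u := eq_of_le_cls ((cent_mul hc (hu.coprime hh)).trans_le inf_le_left)
        (huh ▸ Nat.le_of_dvd (cls_pos u) (H.m_dvd hun))
      have h2 : cent (u * h) = cent h := eq_of_le_cls ((cent_mul hc (hu.coprime hh)).trans_le inf_le_right)
        (huh ▸ Nat.le_of_dvd (cls_pos h) (H.m_dvd hhn))
      exact ⟨by rw [← huh]; exact congrArg Subgroup.index h1.symm, h1.symm.trans h2⟩
    -- a `q`-element with class of size `m`
    obtain ⟨u, hu, hum⟩ : ∃ u, IsPow q u ∧ cls u = m := by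
      obtain ⟨g, hg⟩ := H.exists_m
      obtain ⟨r, x, hr, hx, hxm⟩ := H.exists_primary hg
      by_cases hrq : r = q
      · exact ⟨x, hrq ▸ hx, hxm⟩
      · obtain ⟨u, hu, huq, hun⟩ := H.exists_noncentral_in hqm (H.m_notMem hxm)
        exact ⟨u, huq, (hpair u x huq hun (hx.coprime' hr hq hrq) (H.m_notMem hxm) (mem_cent.1 hu)).1⟩
    have hun := H.m_notMem hum
    obtain ⟨D⟩ := H.split hqm hu hun
    have hO : ∀ h ∈ D.K, h ∉ Subgroup.center G → cent u = cent h := fun h hh hhn =>
      (hpair u h hu hun (coprime_orderOf_of_mem D.K_coprime hh) hhn (mem_cent.1 (D.K_le hh)).symm).2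
    haveI hOab : IsMulCommutative D.K := ⟨⟨fun x y => Subtype.ext (by
      by_cases hy : (y : G) ∈ Subgroup.center G
      · exact Subgroup.mem_center_iff.1 hy x
      · exact mem_cent.1 (show (x : G) ∈ cent (y : G) from hO y y.2 hy ▸ D.K_le x.2))⟩⟩
    have hsolv : Group.IsSolvable G := Solv.isSolvable_of_abelian_pow_index hq _ G rfl D.K hOab
      ⟨(Nat.card G).factorization q, Nat.eq_of_mul_eq_mul_left Nat.card_pos
        ((Subgroup.card_mul_index D.K).trans (hfull u hum D).symm)⟩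
    -- some noncentral element of `D.K`
    obtain ⟨h, hh, hhn⟩ : ∃ h ∈ D.K, h ∉ Subgroup.center G := by
      by_contra hc
      push Not at hc
      have h1 := Subgroup.card_le_of_le (show D.K ≤ Z.split.K from fun h hh =>
        hZK h (hc h hh) (coprime_orderOf_of_mem D.K_coprime hh))
      have h2 := (hfull u hum D).trans (H.card_mul_of_cls hma ha Z.split hz).symm
      rw [mul_right_comm _ _ n] at h2
      have h3 := Nat.eq_of_mul_eq_mul_right (pow_pos hq.pos _) h2
      rw [h3] at h1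
      have := Nat.le_of_mul_le_mul_left (h1.trans (mul_one _).ge) Nat.card_pos
      exact absurd H.one_lt_n (not_lt.2 this)
    suffices hnorm : (cent u).Normal by
      refine ⟨D.K, ⟨fun k hk g => D.K_mem _ (hnorm.conj_mem k (D.K_le hk) g) ?_⟩, D.K_coprime, hfull u hum D⟩
      rw [← MulAut.conj_apply, MulEquiv.orderOf_eq]
      exact coprime_orderOf_of_mem D.K_coprime hk
    set V := Cfsg.pCore q G with hV
    haveI : V.Normal := Solv.pCore_normal q
    haveI hNn : (Cfsg.pPrimeCore q G).Normal := Solv.pPrimeCore_normal q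
    have hNK : Cfsg.pPrimeCore q G ≤ D.K := by
      have hsup : (Nat.card (Cfsg.pPrimeCore q G ⊔ D.K : Subgroup G)).Coprime q :=
        Nat.Coprime.coprime_dvd_left (Solv.card_sup_dvd _ _)
          ((Solv.pPrimeCore_coprime q).mul_left D.K_coprime)
      have h1 : Nat.card (Cfsg.pPrimeCore q G ⊔ D.K : Subgroup G) ∣ Nat.card D.K :=
        (hsup.pow_right ((Nat.card G).factorization q)).dvd_of_dvd_mul_right
          ((hfull u hum D).symm ▸ Subgroup.card_subgroup_dvd_card _)
      exact (Subgroup.eq_of_le_of_card_ge (le_sup_right : D.K ≤ _) (Nat.le_of_dvd Nat.card_pos h1)) ▸ le_sup_left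
    by_cases hNZ : Cfsg.pPrimeCore q G ≤ Subgroup.center G
    · have hVZ : ¬ V ≤ Subgroup.center G := by
        intro hle
        have hF : Cfsg.fittingSubgroup G ≤ Subgroup.center G := by
          rw [Solv.fitting_eq_iSup_pCore]
          refine iSup_le fun r => ?_
          by_cases hrq : (r : ℕ) = q
          · rw [hrq]; exact hle
          haveI := Fact.mk r.2
          haveI : (Cfsg.pCore (r : ℕ) G).Normal := Solv.pCore_normal _
          refine le_trans (Solv.normal_le_pPrimeCore ?_) hNZ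
          obtain ⟨j, hj⟩ := IsPGroup.iff_card.1 (Solv.pCore_isPGroup (G := G) r)
          rw [hj]
          exact Nat.Coprime.pow_left j ((Nat.coprime_primes r.2 hq).2 hrq)
        have h1 := Solv.centralizer_fitting_le hsolv
        refine hhn (hF (h1 (Subgroup.mem_centralizer_iff.2 fun f hf => ?_)))
        exact ((Subgroup.mem_center_iff.1 (hF hf)) h).symm
      obtain ⟨v, hv, hvn⟩ := SetLike.not_le_iff_exists.1 hVZ
      have hcV : h ∈ Subgroup.centralizer (V : Set G) := by
        refine Fusion.mem_centralizer_of_AB (Q := V) (T := Subgroup.zpowers u) (Solv.pCore_isPGroup q)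
          (isPow_of_isPGroup_zpowers hu) (by rw [Subgroup.normalizer_eq_top]; exact le_top)
          (by rw [Subgroup.normalizer_eq_top]; exact Subgroup.mem_top h) ?_
          (coprime_orderOf_of_mem D.K_coprime hh) fun w hw hwu => ?_
        · intro t ht
          obtain ⟨i, rfl⟩ := Subgroup.mem_zpowers_iff.1 ht
          exact ((show Commute h u from mem_cent.1 (D.K_le hh)).zpow_right i).eq
        · have hwT : w ∈ D.T := D.T_mem w (mem_cent.2 (hwu u (Subgroup.mem_zpowers u)))
            (isPow_of_mem (Solv.pCore_isPGroup q) hw)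
          exact (D.comm w hwT h hh).symm.eq
      refine ⟨fun k hk g => ?_⟩
      have hw : g * v * g⁻¹ ∈ V := (Solv.pCore_normal q).conj_mem v hv g
      have hcent : ∀ w ∈ V, w ∉ Subgroup.center G → cent w = cent u := fun w hw hwn =>
        (hpair w h (isPow_of_mem (Solv.pCore_isPGroup q) hw) hwn (coprime_orderOf_of_mem D.K_coprime hh) hhn
          (Subgroup.mem_centralizer_iff.1 hcV w hw)).2.trans (hO h hh hhn).symm
      have h1 := mem_cent_conj (x := g) ((hcent v hv hvn).symm ▸ hk)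
      rwa [hcent _ hw (conj_notMem_center hvn g)] at h1
    · obtain ⟨v, hv, hvn⟩ := SetLike.not_le_iff_exists.1 hNZ
      refine ⟨fun k hk g => ?_⟩
      have h1 := mem_cent_conj (x := g) ((hO v (hNK hv) hvn) ▸ hk)
      rwa [← hO _ (hNK (hNn.conj_mem v hv g)) (conj_notMem_center hvn g)] at h1
  -- `K` noncentral: `m = q`
  obtain ⟨b, hb, hbn⟩ := SetLike.not_le_iff_exists.1 hKZ
  have ha1 : a = 1 := hfa ▸ H.fac_eq_one hqm Z hKab le_rfl hQK hb hbn
  have hv1 : m.factorization q = 1 := hfa.trans ha1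
  have hmq : m = q := by rw [hma, ha1, pow_one]
  have hKnorm : ∀ (u : G) (D : Split q (cq G m q) u) (g : G), IsPow q u →
      g ∈ Subgroup.normalizer (D.T : Set G) → ∀ k ∈ D.K, g * k * g⁻¹ ∈ D.K := by
    intro u D g hu hg k hk
    refine D.K_mem _ ?_ (by rw [← MulAut.conj_apply, MulEquiv.orderOf_eq]; exact coprime_orderOf_of_mem D.K_coprime hk)
    have h1 : g⁻¹ * u * g ∈ D.T := by
      have := (Subgroup.mem_normalizer_iff.1 (inv_mem hg) u).1 (self_mem_T D hu)
      rwa [inv_inv] at this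
    have h2 := mem_cent_conj (x := g) (k := k) (g := g⁻¹ * u * g) (mem_cent.2 (D.comm _ h1 k hk).symm.eq)
    rwa [show g * (g⁻¹ * u * g) * g⁻¹ = u by group] at h2
  by_cases hex : ∃ u : G, IsPow q u ∧ cls u = m
  · obtain ⟨u, hu, hum⟩ := hex
    obtain ⟨D⟩ := H.split hqm hu (H.m_notMem hum)
    obtain ⟨S, -, hS⟩ := H.exists_sylow_normalizing hqm hv1 D.T_pgroup D.T_card
    exact ⟨D.K, H.normal_of_normalized D.K_coprime (hfull u hum D) S
      (fun g hg => conj_mem_iff_normalizer (hKnorm u D g hu (hS hg))), D.K_coprime, hfull u hum D⟩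
  exfalso
  push Not at hex
  obtain ⟨g₀, hg₀⟩ := H.exists_m
  obtain ⟨r, x, hr, hx, hxm⟩ := H.exists_primary hg₀
  have hrq : r ≠ q := fun e => hex x (e ▸ hx) hxm
  have hxn := H.m_notMem hxm
  have hxq : (orderOf x).Coprime q := hx.coprime' hr hq hrq
  obtain ⟨u, huc, hu, hun⟩ := H.exists_noncentral_in hqm hxn
  have hum : cls u = m * n := (H.noncentral hun).resolve_left (hex u hu)
  obtain ⟨D⟩ := H.split hqm hu hun
  obtain ⟨hDc, -⟩ := habel u hu hum D
  obtain ⟨S, hTS, hS⟩ := H.exists_sylow_normalizing hqm hv1 D.T_pgroup D.T_card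
  have hxK : x ∈ D.K := D.K_mem x (mem_cent_comm.1 huc) hxq
  have hTx : D.T ≤ cent x := fun t ht => mem_cent.2 (D.comm t ht x hxK).eq
  obtain ⟨σ, hσS, hσT⟩ : ∃ s ∈ (S : Subgroup G), s ∉ D.T := by
    by_contra hc
    push Not at hc
    have h1 := Subgroup.card_le_of_le (show (S : Subgroup G) ≤ D.T from hc)
    rw [S.card_eq_multiplicity, D.T_card, Nat.pow_le_pow_iff_right hq.one_lt] at h1
    have := H.cq_add hq hqm
    omega
  have hσx := H.notMem_cent hqm hxn D.T_card S.2 hTS hTx hσS hσT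
  -- powers of an element `s ∉ C(y)` give all the cosets of a centralizer of index `q`
  have hcos : ∀ (s y : G), cls y = m → IsPow q s → s ∉ cent y → s ^ q ∈ cent y →
      ∀ g : G, ∃ i : ℕ, g * y * g⁻¹ = s ^ i * y * (s ^ i)⁻¹ := by
    intro s y hy hs hsy hsq g
    let f : ZMod q → G ⧸ cent y := fun i => QuotientGroup.mk (s ^ i.val)
    have hf : Function.Injective f := by
      intro i j hij
      by_contra hne
      have h1 : (s ^ i.val)⁻¹ * s ^ j.val ∈ cent y := QuotientGroup.eq.1 hij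
      rw [← zpow_natCast, ← zpow_natCast, ← zpow_neg, ← zpow_add] at h1
      set d : ℤ := -(i.val : ℤ) + j.val with hd
      have hdq : ¬ (q : ℤ) ∣ d := fun hdd => hne (by
        rw [← ZMod.intCast_zmod_eq_zero_iff_dvd] at hdd
        rw [hd] at hdd
        push_cast [ZMod.natCast_zmod_val] at hdd
        rw [neg_add_eq_zero] at hdd
        exact hdd)
      obtain ⟨e1, e2, he⟩ := (Prime.coprime_iff_not_dvd (Nat.prime_iff_prime_int.1 hq)).2 hdq
      refine hsy ?_
      have h2 : s = (s ^ q) ^ e1 * (s ^ d) ^ e2 := by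
        rw [← zpow_natCast, ← zpow_mul, ← zpow_mul, ← zpow_add,
          show (q : ℤ) * e1 + d * e2 = 1 by linear_combination he, zpow_one]
      rw [h2]
      exact mul_mem (zpow_mem hsq _) (zpow_mem h1 _)
    have hb : Function.Bijective f := (Nat.bijective_iff_injective_and_card f).2 ⟨hf, by
      rw [Nat.card_zmod, ← Subgroup.index_eq_card]; exact (hy.trans hmq).symm⟩
    obtain ⟨i, hi⟩ := hb.2 (QuotientGroup.mk g)
    refine ⟨i.val, ?_⟩
    have h1 : (s ^ i.val)⁻¹ * g ∈ cent y := QuotientGroup.eq.1 hi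
    calc g * y * g⁻¹ = s ^ i.val * ((s ^ i.val)⁻¹ * g * y) * ((s ^ i.val)⁻¹ * g)⁻¹ * (s ^ i.val)⁻¹ := by group
      _ = s ^ i.val * (y * ((s ^ i.val)⁻¹ * g)) * ((s ^ i.val)⁻¹ * g)⁻¹ * (s ^ i.val)⁻¹ := by
          rw [mem_cent.1 h1]
      _ = s ^ i.val * y * (s ^ i.val)⁻¹ := by group
  have hpowT : ∀ (w : G) (E : Split q (cq G m q) w) (P : Sylow q G), E.T ≤ P →
      (P : Subgroup G) ≤ Subgroup.normalizer (E.T : Set G) → ∀ s ∈ (P : Subgroup G), s ^ q ∈ E.T := by
    intro w E P hEP hPN s hs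
    haveI := Subgroup.normal_subgroupOf_of_le_normalizer hPN
    have hidx : (E.T.subgroupOf (P : Subgroup G)).index = q := by
      have h1 := Subgroup.card_mul_index (E.T.subgroupOf (P : Subgroup G))
      rw [Nat.card_congr (Subgroup.subgroupOfEquivOfLe hEP).toEquiv, E.T_card, P.card_eq_multiplicity,
        ← H.cq_add hq hqm, hv1, pow_succ] at h1
      exact Nat.eq_of_mul_eq_mul_left (pow_pos hq.pos _) h1
    have h2 := Subgroup.pow_index_mem (E.T.subgroupOf (P : Subgroup G)) ⟨s, hs⟩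
    rw [hidx, Subgroup.mem_subgroupOf] at h2
    exact h2
  have hσq : σ ^ q ∈ cent x := hTx (hpowT u D S hTS hS σ hσS)
  have hσpow : IsPow q σ := isPow_of_mem S.2 hσS
  have hxconj : ∀ g : G, g * x * g⁻¹ ∈ D.K := fun g => by
    obtain ⟨i, hi⟩ := hcos σ x hxm hσpow hσx hσq g
    rw [hi]
    exact hKnorm u D _ hu (pow_mem (hS hσS) i) x hxK
  set L := (cent x).normalCore with hL
  have hDL : cent u ≤ L := H.le_core fun g t ht => mem_cent.2 (hDc _ (hxconj g) t ht).eq
  have hσn : σ ∉ Subgroup.center G := fun hc => hσx (mem_cent.2 ((Subgroup.mem_center_iff.1 hc) x).symm)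
  have hσmn : cls σ = m * n := (H.noncentral hσn).resolve_left (hex σ hσpow)
  obtain ⟨Dσ⟩ := H.split hqm hσpow hσn
  obtain ⟨hDσc, hDσcard⟩ := habel σ hσpow hσmn Dσ
  obtain ⟨w, hw, hwn⟩ : ∃ w ∈ Dσ.K, w ∉ Subgroup.center G := by
    by_contra hc
    push Not at hc
    have h1 : Dσ.K = Z.split.K := Subgroup.eq_of_le_of_card_ge
      (fun w hw => hZK w (hc w hw) (coprime_orderOf_of_mem Dσ.K_coprime hw)) hDσcard.ge
    exact hbn (hc b (h1 ▸ hb))
  have hwσ : Commute w σ := mem_cent.1 (Dσ.K_le hw)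
  have hwq := coprime_orderOf_of_mem Dσ.K_coprime hw
  -- `w` fixes every conjugate of `x`
  have hwx : ∀ g : G, w ∈ cent (g * x * g⁻¹) := by
    have hw0 : w ∈ cent x := by
      obtain ⟨i, hi⟩ := hcos σ x hxm hσpow hσx hσq w
      have hcy : Commute w (σ ^ i) := hwσ.pow_right i
      have hj : ∀ j : ℕ, w ^ j * x * (w ^ j)⁻¹ = σ ^ (i * j) * x * (σ ^ (i * j))⁻¹ := by
        intro j
        induction j with
        | zero => simp
        | succ j ih =>
          calc w ^ (j + 1) * x * (w ^ (j + 1))⁻¹ = w * (w ^ j * x * (w ^ j)⁻¹) * w⁻¹ := by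
                rw [pow_succ']; group
            _ = (w * σ ^ (i * j)) * x * (w * σ ^ (i * j))⁻¹ := by rw [ih]; group
            _ = σ ^ (i * j) * (w * x * w⁻¹) * (σ ^ (i * j))⁻¹ := by
                rw [(hwσ.pow_right (i * j)).eq]; group
            _ = σ ^ (i * (j + 1)) * x * (σ ^ (i * (j + 1)))⁻¹ := by
                rw [hi, Nat.mul_succ, pow_add]; group
      have h1 := hj (orderOf w)
      rw [pow_orderOf_eq_one, one_mul, inv_one, mul_one] at h1
      have h2 : σ ^ (i * orderOf w) ∈ cent x := mem_cent.2 (mul_inv_eq_iff_eq_mul.1 h1.symm)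
      have hqi : q ∣ i := by
        by_contra hqi
        obtain ⟨e1, e2, he⟩ := Nat.isCoprime_iff_coprime.2
          (Nat.Coprime.mul_right (hq.coprime_iff_not_dvd.2 hqi) hwq.symm)
        refine hσx ?_
        have h3 : σ = (σ ^ q) ^ e1 * (σ ^ (i * orderOf w)) ^ e2 := by
          rw [← zpow_natCast, ← zpow_natCast σ (i * orderOf w), ← zpow_mul, ← zpow_mul, ← zpow_add,
            show (q : ℤ) * e1 + ((i * orderOf w : ℕ) : ℤ) * e2 = 1 by linear_combination he, zpow_one]
        rw [h3]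
        exact mul_mem (zpow_mem hσq _) (zpow_mem h2 _)
      obtain ⟨c, rfl⟩ := hqi
      have h4 : σ ^ (q * c) ∈ cent x := by rw [pow_mul]; exact pow_mem hσq c
      rw [mem_cent.1 h4, mul_inv_cancel_right] at hi
      exact mem_cent.2 (mul_inv_eq_iff_eq_mul.1 hi)
    intro g
    obtain ⟨i, hi⟩ := hcos σ x hxm hσpow hσx hσq g
    rw [hi]
    have h5 := mem_cent_conj (x := σ ^ i) hw0
    rwa [← (hwσ.pow_right i).eq, mul_inv_cancel_right] at h5
  have hw0 : w ∈ cent x := by simpa using hwx 1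
  rcases H.noncentral hwn with hwm | hwm
  swap
  · -- class of size `m n`
    have hle := (H.cent_le_of_mn hσmn hwσ.symm (hσpow.coprime hwq)).1
    have he : cent σ = cent w := eq_of_le_cls hle (by rw [hσmn, hwm])
    exact hσx (mem_cent_comm.1 (he ▸ mem_cent_comm.1 hw0))
  -- class of size `m`
  obtain ⟨S', hTS', hS'⟩ := H.exists_sylow_normalizing hqm hv1 Dσ.T_pgroup Dσ.T_card
  have hσT' : σ ∈ Dσ.T := self_mem_T Dσ hσpow
  have hLle : L ≤ cent x := Subgroup.normalCore_le _
  have hσL : σ ∉ L := fun h => hσx (hLle h)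
  obtain ⟨τ, hτS, hτL, hτT⟩ : ∃ s ∈ (S' : Subgroup G), s ∈ L ∧ s ∉ Dσ.T := by
    obtain ⟨R, hR, hRp, hRc⟩ := H.sylow_in hqm hun
    obtain ⟨R', hR'⟩ := hRp.exists_le_sylow
    obtain ⟨g, hg⟩ := MulAction.exists_smul_eq G R' S'
    set R'' := R.map (MulAut.conj g).toMonoidHom
    have hR''L : R'' ≤ L := by
      rintro _ ⟨t, ht, rfl⟩
      exact (inferInstance : L.Normal).conj_mem t (hDL (hR ht)) g
    have hR''S : R'' ≤ (S' : Subgroup G) := by
      rw [← hg, Sylow.coe_subgroup_smul]; exact Subgroup.map_mono hR'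
    by_contra hc
    push Not at hc
    have h1 : R'' ≤ Dσ.T := fun t ht => hc t (hR''S ht) (hR''L ht)
    have h2 := Subgroup.eq_of_le_of_card_ge h1 (by
      rw [Subgroup.card_map_of_injective (MulEquiv.injective _), hRc, Dσ.T_card])
    exact hσL (hR''L (h2 ▸ hσT'))
  have hTw : Dσ.T ≤ cent w := fun t ht => mem_cent.2 (Dσ.comm t ht w hw).eq
  have hτw := H.notMem_cent hqm hwn Dσ.T_card S'.2 hTS' hTw hτS hτT
  have hτpow : IsPow q τ := isPow_of_mem S'.2 hτS
  have hτq : τ ^ q ∈ cent w := hTw (hpowT σ Dσ S' hTS' hS' τ hτS)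
  have hτx : ∀ g : G, τ ∈ cent (g * x * g⁻¹) := fun g => by
    have h1 := mem_cent_conj (x := g) (hLle ((inferInstance : L.Normal).conj_mem τ hτL g⁻¹))
    rwa [show g * (g⁻¹ * τ * g⁻¹⁻¹) * g⁻¹ = τ by group] at h1
  -- the conjugates of `x w`
  let Φ : ZMod q × ZMod q → G := fun ij =>
    (σ ^ ij.1.val * x * (σ ^ ij.1.val)⁻¹) * (τ ^ ij.2.val * w * (τ ^ ij.2.val)⁻¹)
  have hmod : ∀ (s y : G), s ^ q ∈ cent y → ∀ i : ℕ,
      s ^ i * y * (s ^ i)⁻¹ = s ^ (i : ZMod q).val * y * (s ^ (i : ZMod q).val)⁻¹ := by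
    intro s y hs i
    rw [ZMod.val_natCast]
    conv_lhs => rw [← Nat.mod_add_div i q, pow_add, pow_mul]
    have h1 := mem_cent.1 (pow_mem hs (i / q))
    calc s ^ (i % q) * (s ^ q) ^ (i / q) * y * (s ^ (i % q) * (s ^ q) ^ (i / q))⁻¹
        = s ^ (i % q) * ((s ^ q) ^ (i / q) * y) * ((s ^ q) ^ (i / q))⁻¹ * (s ^ (i % q))⁻¹ := by group
      _ = s ^ (i % q) * y * (s ^ (i % q))⁻¹ := by rw [h1]; group
  have hCl : Cl (x * w) = Set.range Φ := by
    ext y
    rw [mem_Cl]
    constructor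
    · rintro ⟨g, rfl⟩
      obtain ⟨i, hi⟩ := hcos σ x hxm hσpow hσx hσq g
      obtain ⟨j, hj⟩ := hcos τ w hwm hτpow hτw hτq g
      refine ⟨((i : ZMod q), (j : ZMod q)), ?_⟩
      show _ * _ = _
      rw [← hmod σ x hσq i, ← hmod τ w hτq j, ← hi, ← hj]
      group
    · rintro ⟨⟨i, j⟩, rfl⟩
      refine ⟨τ ^ j.val * σ ^ i.val, ?_⟩
      show _ = (σ ^ i.val * x * (σ ^ i.val)⁻¹) * (τ ^ j.val * w * (τ ^ j.val)⁻¹)
      have h1 : Commute (τ ^ j.val) (σ ^ i.val * x * (σ ^ i.val)⁻¹) :=
        (show Commute τ _ from mem_cent.1 (hτx (σ ^ i.val))).pow_left _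
      calc τ ^ j.val * σ ^ i.val * (x * w) * (τ ^ j.val * σ ^ i.val)⁻¹
          = τ ^ j.val * (σ ^ i.val * x * (σ ^ i.val)⁻¹) * (σ ^ i.val * w * (σ ^ i.val)⁻¹) * (τ ^ j.val)⁻¹ := by group
        _ = (σ ^ i.val * x * (σ ^ i.val)⁻¹) * τ ^ j.val * w * (τ ^ j.val)⁻¹ := by
            rw [h1.eq, show σ ^ i.val * w * (σ ^ i.val)⁻¹ = w by
              rw [← (hwσ.pow_right i.val).eq, mul_inv_cancel_right]]
        _ = _ := by group
  have hsupS : ∀ y : G, y ∈ Subgroup.centralizer ({τ} : Set G) → Dσ.T ≤ cent y → y ∈ Subgroup.center G := by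
    intro y hy hTy
    by_contra hyn
    exact H.notMem_cent hqm hyn Dσ.T_card S'.2 hTS' hTy hτS hτT (mem_cent_comm.1 hy)
  have hinj : Function.Injective Φ := by
    rintro ⟨i, j⟩ ⟨k, l⟩ he
    change (σ ^ i.val * x * (σ ^ i.val)⁻¹) * (τ ^ j.val * w * (τ ^ j.val)⁻¹) =
      (σ ^ k.val * x * (σ ^ k.val)⁻¹) * (τ ^ l.val * w * (τ ^ l.val)⁻¹) at he
    set xi := σ ^ i.val * x * (σ ^ i.val)⁻¹
    set xk := σ ^ k.val * x * (σ ^ k.val)⁻¹
    set wj := τ ^ j.val * w * (τ ^ j.val)⁻¹
    set wl := τ ^ l.val * w * (τ ^ l.val)⁻¹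
    have hez : xk⁻¹ * xi = wl * wj⁻¹ := by
      rw [eq_mul_inv_iff_mul_eq, mul_assoc, he, inv_mul_cancel_left]
    have hec : xk⁻¹ * xi ∈ Subgroup.center G := by
      refine hsupS _ ?_ fun t ht => ?_
      · exact mem_cent.2 (((show Commute τ xk from mem_cent.1 (hτx (σ ^ k.val))).inv_right.mul_right
          (mem_cent.1 (hτx (σ ^ i.val)))).symm).eq
      · rw [hez]
        have hTj : ∀ j' : ℕ, Commute t (τ ^ j' * w * (τ ^ j')⁻¹) := fun j' => by
          have h7 : (τ ^ j')⁻¹ * t * τ ^ j' ∈ Dσ.T := by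
            have := (Subgroup.mem_normalizer_iff.1 (inv_mem (pow_mem (hS' hτS) j')) t).1 ht
            rwa [inv_inv] at this
          have h8 := mem_cent_conj (x := τ ^ j') (hTw h7)
          rw [show τ ^ j' * ((τ ^ j')⁻¹ * t * τ ^ j') * (τ ^ j')⁻¹ = t by group] at h8
          exact mem_cent.1 h8
        exact mem_cent.2 ((hTj l.val).mul_right (hTj j.val).inv_right).eq
    have hxk : Commute xk (xk⁻¹ * xi) := (Subgroup.mem_center_iff.1 hec xk)
    set e := xk⁻¹ * xi
    have hik : i = k := by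
      by_contra hne
      set δ : ℕ := (i - k).val with hδ
      have hδe : σ ^ δ * xk * (σ ^ δ)⁻¹ = xk * e := by
        show σ ^ δ * (σ ^ k.val * x * (σ ^ k.val)⁻¹) * (σ ^ δ)⁻¹ = xk * (xk⁻¹ * xi)
        rw [mul_inv_cancel_left, show xi = σ ^ (((δ + k.val : ℕ) : ZMod q)).val * x *
          (σ ^ (((δ + k.val : ℕ) : ZMod q)).val)⁻¹ by
            rw [hδ]; push_cast [ZMod.natCast_zmod_val]; rw [sub_add_cancel], ← hmod σ x hσq, pow_add]
        group
      have hit : ∀ j' : ℕ, (σ ^ δ) ^ j' * xk * ((σ ^ δ) ^ j')⁻¹ = xk * e ^ j' := by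
        intro j'
        induction j' with
        | zero => simp
        | succ j' ih =>
          have hc := Subgroup.mem_center_iff.1 (pow_mem hec j') (σ ^ δ)⁻¹
          calc (σ ^ δ) ^ (j' + 1) * xk * ((σ ^ δ) ^ (j' + 1))⁻¹
              = σ ^ δ * ((σ ^ δ) ^ j' * xk * ((σ ^ δ) ^ j')⁻¹) * (σ ^ δ)⁻¹ := by
                rw [pow_succ']; group
            _ = σ ^ δ * xk * (σ ^ δ)⁻¹ * e ^ j' := by
                rw [ih, mul_assoc (σ ^ δ), mul_assoc xk, ← hc]; group
            _ = xk * e ^ (j' + 1) := by rw [hδe, pow_succ']; group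
      have hq1 : e ^ q = 1 := by
        have h1 := hit q
        rw [← pow_mul, mul_comm, pow_mul] at h1
        have h2 : (σ ^ q) ^ δ ∈ cent xk := by
          have h3 := mem_cent_conj (x := σ ^ k.val) (pow_mem hσq δ)
          rwa [((((Commute.refl σ).pow_pow k.val q).pow_right δ)).eq, mul_inv_cancel_right] at h3
        rw [mem_cent.1 h2, mul_inv_cancel_right] at h1
        exact mul_eq_left.1 h1.symm
      have hox : ∀ g : G, (g * x * g⁻¹) ^ orderOf x = 1 := fun g => by
        rw [conj_pow, pow_orderOf_eq_one, mul_one, mul_inv_cancel]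
      have hoe : e ^ orderOf x = 1 := by
        have h1 := hxk.mul_pow (orderOf x)
        rw [mul_inv_cancel_left, hox (σ ^ i.val), hox (σ ^ k.val), one_mul] at h1
        exact h1.symm
      have he1 : e = 1 := orderOf_eq_one_iff.1 (Nat.eq_one_of_dvd_coprimes hxq.symm
        (orderOf_dvd_of_pow_eq_one hq1) (orderOf_dvd_of_pow_eq_one hoe))
      have h9 : σ ^ δ ∈ cent x := by
        have h1 := hδe
        rw [he1, mul_one, show σ ^ δ * (σ ^ k.val * x * (σ ^ k.val)⁻¹) * (σ ^ δ)⁻¹ =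
          σ ^ k.val * (σ ^ δ * x * (σ ^ δ)⁻¹) * (σ ^ k.val)⁻¹ by
            rw [← mul_assoc, ← mul_assoc, ((Commute.refl σ).pow_pow δ k.val).eq]; group] at h1
        exact mem_cent.2 (mul_inv_eq_iff_eq_mul.1 (mul_left_cancel (mul_right_cancel h1)))
      have hδq : ¬ q ∣ δ := fun hd => by
        rw [hδ] at hd
        have h0 := Nat.eq_zero_of_dvd_of_lt hd (ZMod.val_lt _)
        rw [ZMod.val_eq_zero, sub_eq_zero] at h0
        exact hne h0
      obtain ⟨e1, e2, he'⟩ := Nat.isCoprime_iff_coprime.2 (hq.coprime_iff_not_dvd.2 hδq)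
      refine hσx ?_
      have h3 : σ = (σ ^ q) ^ e1 * (σ ^ δ) ^ e2 := by
        rw [← zpow_natCast, ← zpow_natCast σ δ, ← zpow_mul, ← zpow_mul, ← zpow_add,
          show (q : ℤ) * e1 + (δ : ℤ) * e2 = 1 by linear_combination he', zpow_one]
      rw [h3]
      exact mul_mem (zpow_mem hσq _) (zpow_mem h9 _)
    subst hik
    have hwjl : wj = wl := mul_left_cancel he
    congr 1
    by_contra hne
    have h1 : (τ ^ l.val)⁻¹ * τ ^ j.val ∈ cent w := by
      refine mem_cent.2 ?_
      calc (τ ^ l.val)⁻¹ * τ ^ j.val * w = (τ ^ l.val)⁻¹ * wj * τ ^ j.val := by simp only [wj]; group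
        _ = w * ((τ ^ l.val)⁻¹ * τ ^ j.val) := by rw [hwjl]; simp only [wl]; group
    rw [← zpow_natCast, ← zpow_natCast, ← zpow_neg, ← zpow_add] at h1
    set d : ℤ := -(l.val : ℤ) + j.val with hd
    have hdq : ¬ (q : ℤ) ∣ d := fun hdd => hne (by
      rw [← ZMod.intCast_zmod_eq_zero_iff_dvd, hd] at hdd
      push_cast [ZMod.natCast_zmod_val] at hdd
      rw [neg_add_eq_zero] at hdd
      exact hdd.symm)
    obtain ⟨e1, e2, he'⟩ := (Prime.coprime_iff_not_dvd (Nat.prime_iff_prime_int.1 hq)).2 hdq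
    refine hτw ?_
    have h2 : τ = (τ ^ q) ^ e1 * (τ ^ d) ^ e2 := by
      rw [← zpow_natCast, ← zpow_mul, ← zpow_mul, ← zpow_add,
        show (q : ℤ) * e1 + d * e2 = 1 by linear_combination he', zpow_one]
    rw [h2]
    exact mul_mem (zpow_mem hτq _) (zpow_mem h1 _)
  have hcount : cls (x * w) = q * q := by
    rw [← ncard_Cl, hCl, Set.ncard_range_of_injective hinj, Nat.card_prod, Nat.card_zmod]
  rcases H.cases (x * w) with h1 | h1 | h1 <;> rw [hcount] at h1
  · exact hq.ne_one (Nat.eq_one_of_mul_eq_one_right h1)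
  · rw [hmq] at h1
    exact hq.ne_one (Nat.eq_of_mul_eq_mul_left hq.pos (h1.trans (mul_one q).symm))
  · rw [hmq] at h1
    have h2 := Nat.eq_of_mul_eq_mul_left hq.pos h1
    have h3 := H.cop
    rw [← h2, hmq, Nat.coprime_self] at h3
    exact hq.ne_one h3

end Hyp

end Cfsg.Agent.Perm.ThreeSizes
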