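import Cfsg.Agent.Lib.Perm.ThreeSizes.Basic

/-!
Groups with class sizes `1`, `m`, `m n`: the centralizer of a noncentral `q`-element, `q ∣ m`.
-/

set_option autoImplicit false
set_option linter.style.haveILetI false
set_option linter.unusedSectionVars false

namespace Cfsg.Agent.Perm.ThreeSizes

open Cfsg.Agent.Perm.CoprimeSizes

universe u

variable {G : Type u} [Group G] [Finite G] {m n : ℕ}

/-- `C(u) = T × K` with `T` a `q`-group and `K` of order prime to `q`. -/
structure Split (q c : ℕ) (u : G) where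
  T : Subgroup G
  K : Subgroup G
  T_le : T ≤ cent u
  K_le : K ≤ cent u
  T_pgroup : IsPGroup q T
  K_coprime : (Nat.card K).Coprime q
  comm : ∀ t ∈ T, ∀ k ∈ K, Commute t k
  T_card : Nat.card T = q ^ c
  card : Nat.card T * Nat.card K = Nat.card (cent u)
  T_mem : ∀ g ∈ cent u, IsPow q g → g ∈ T
  K_mem : ∀ g ∈ cent u, (orderOf g).Coprime q → g ∈ K
  exists_mul : ∀ g ∈ cent u, ∃ t ∈ T, ∃ k ∈ K, g = t * k

namespace Hyp

variable (H : Hyp G m n)
include H

theorem split {q : ℕ} [hqf : Fact q.Prime] (hqm : q ∣ m) {u : G} (hu : IsPow q u)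
    (hun : u ∉ Subgroup.center G) : Nonempty (Split q (cq G m q) u) := by
  classical
  obtain ⟨T0⟩ : Nonempty (Sylow q (cent u)) := inferInstance
  have hT0c : Nat.card (T0 : Subgroup (cent u)) = q ^ cq G m q := by
    rw [T0.card_eq_multiplicity, H.fac_cent hqf.out hqm hun]
  -- an element of order prime to `q` and a commuting `q`-element lie in a Sylow subgroup's product
  have key : ∀ h : cent u, ∃ x : cent u, ∃ R : Subgroup (cent u),
      R = (T0 : Subgroup (cent u)).map (MulAut.conj x).toMonoidHom ∧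
      ∃ a b : cent u, h = a * b ∧ a ∈ R ∧ (orderOf b).Coprime q ∧ ∀ r ∈ R, b * r = r * b := by
    intro h
    obtain ⟨a, b, ha, hb, hab, hak, hbk⟩ := Solv.exists_ppart q (h : G)
    have hha : a ∈ cent u := Subgroup.zpowers_le.2 h.2 ha
    have hhb : b ∈ cent u := Subgroup.zpowers_le.2 h.2 hb
    have hcub : Commute u b := (mem_cent.1 hhb).symm
    have hco : (orderOf u).Coprime (orderOf b) := hu.coprime hbk
    have hn' : u * b ∉ Subgroup.center G := mul_notMem_center hcub hco hun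
    have hcab : Commute a b := by
      obtain ⟨i, rfl⟩ := Subgroup.mem_zpowers_iff.1 ha
      obtain ⟨j, rfl⟩ := Subgroup.mem_zpowers_iff.1 hb
      exact ((Commute.refl (h : G)).zpow_zpow i j)
    have hle : Subgroup.zpowers a ≤ cent (u * b) := Subgroup.zpowers_le.2 (by
      rw [cent_mul hcub hco]
      exact Subgroup.mem_inf.2 ⟨hha, mem_cent.2 hcab.eq⟩)
    obtain ⟨k, hk⟩ := hak
    obtain ⟨R0, hR0⟩ := ((Solv.isPGroup_zpowers hk).comap_subtype (K := cent (u * b))).exists_le_sylow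
    let R : Subgroup (cent u) := ((R0 : Subgroup (cent (u * b))).map (cent (u * b)).subtype).subgroupOf (cent u)
    have hsub : cent (u * b) ≤ cent u := (cent_mul hcub hco).trans_le inf_le_left
    have hRc : Nat.card R = q ^ cq G m q := by
      rw [Nat.card_congr (Subgroup.subgroupOfEquivOfLe ((Subgroup.map_subtype_le _).trans hsub)).toEquiv,
        Subgroup.card_subtype, R0.card_eq_multiplicity, H.fac_cent hqf.out hqm hn']
    obtain ⟨x, hx⟩ := MulAction.exists_smul_eq (cent u) T0 (Sylow.ofCard R (by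
      rw [hRc, H.fac_cent hqf.out hqm hun]))
    refine ⟨x, R, ?_, ⟨a, hha⟩, ⟨b, hhb⟩, Subtype.ext hab.symm, ?_, ?_, ?_⟩
    · have h1 := congrArg (fun S : Sylow q (cent u) => (S : Subgroup (cent u))) hx
      simp only [Sylow.coe_subgroup_smul] at h1
      exact h1.symm
    · exact Subgroup.mem_subgroupOf.2 ⟨⟨a, hle (Subgroup.mem_zpowers a)⟩,
        hR0 (Subgroup.mem_subgroupOf.2 (Subgroup.mem_zpowers a)), rfl⟩
    · rwa [← Subgroup.orderOf_coe]
    · intro r hr
      obtain ⟨r', -, hr'⟩ := Subgroup.mem_map.1 (Subgroup.mem_subgroupOf.1 hr)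
      have hrc : (r : G) ∈ cent (u * b) := hr' ▸ r'.2
      rw [cent_mul hcub hco] at hrc
      exact Subtype.ext (mem_cent.1 (Subgroup.mem_inf.1 hrc).2).symm
  set C0 := Subgroup.centralizer ((T0 : Subgroup (cent u)) : Set (cent u))
  have htop : (T0 : Subgroup (cent u)) ⊔ C0 = ⊤ := by
    refine Solv.eq_top_of_forall_conj_mem _ fun h => ?_
    obtain ⟨x, R, hR, a, b, hab, haR, -, hbR⟩ := key h
    refine ⟨x⁻¹, ?_⟩
    rw [hab, show x⁻¹ * (a * b) * x⁻¹⁻¹ = (x⁻¹ * a * x) * (x⁻¹ * b * x) by group]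
    refine mul_mem (Subgroup.mem_sup_left ?_) (Subgroup.mem_sup_right ?_)
    · rw [hR] at haR
      obtain ⟨t, ht, rfl⟩ := Subgroup.mem_map.1 haR
      simpa [mul_assoc] using ht
    · refine Subgroup.mem_centralizer_iff.2 fun t ht => ?_
      have h1 := hbR (x * t * x⁻¹) (by rw [hR]; exact Subgroup.mem_map.2 ⟨t, ht, rfl⟩)
      calc t * (x⁻¹ * b * x) = x⁻¹ * (x * t * x⁻¹ * b) * x := by group
        _ = (x⁻¹ * b * x) * t := by rw [← h1]; group
  haveI hTn : (T0 : Subgroup (cent u)).Normal := by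
    rw [← Subgroup.normalizer_eq_top_iff, eq_top_iff, ← htop]
    exact sup_le Subgroup.le_normalizer (fun c hc => Subgroup.mem_normalizer_iff.2 fun t => by
      constructor
      · intro ht
        rwa [← (Subgroup.mem_centralizer_iff.1 hc) t ht, mul_inv_cancel_right]
      · intro ht
        have h1 := (Subgroup.mem_centralizer_iff.1 (inv_mem hc)) _ ht
        have h2 : t = c⁻¹ * (c * t * c⁻¹) * c := by group
        rw [h2, ← h1, inv_mul_cancel_right]
        exact ht)
  have hcop : (Nat.card (T0 : Subgroup (cent u))).Coprime (T0 : Subgroup (cent u)).index := by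
    rw [hT0c]; exact (hqf.out.coprime_iff_not_dvd.2 T0.not_dvd_index).pow_left _
  obtain ⟨K0, hK0⟩ := Subgroup.exists_right_complement'_of_coprime hcop
  have hK0co : (Nat.card K0).Coprime q := by
    rw [← hK0.symm.index_eq_card]; exact (hqf.out.coprime_iff_not_dvd.2 T0.not_dvd_index).symm
  have hcom : ∀ b : cent u, (orderOf b).Coprime q → ∀ t ∈ (T0 : Subgroup (cent u)), Commute t b := by
    intro b hb t ht
    obtain ⟨x, R, hR, a, b', hab, haR, hb', hbR⟩ := key b
    have hRT : R = (T0 : Subgroup (cent u)) := by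
      rw [hR]
      exact Subgroup.mem_normalizer_iff_map_conj_eq.1 (by
        rw [Subgroup.normalizer_eq_top_iff.2 hTn]; exact Subgroup.mem_top x)
    have hac : Commute a b' := (hbR a haR).symm
    have ha1 : a = 1 := by
      refine (isPow_of_mem T0.2 (hRT ▸ haR) : IsPow q a).eq_one ?_
      refine Nat.Coprime.coprime_dvd_left (orderOf_dvd_of_pow_eq_one ?_) (hb.mul_left hb')
      have h1 : (a * b') ^ (orderOf b * orderOf b') = 1 := by
        rw [← hab, pow_mul, pow_orderOf_eq_one, one_pow]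
      rw [hac.mul_pow, mul_comm (orderOf b) (orderOf b'), pow_mul b', pow_orderOf_eq_one, one_pow, mul_one,
        mul_comm] at h1
      exact h1
    rw [hab, ha1, one_mul]
    exact (hbR t (hRT ▸ ht)).symm
  haveI hKn : K0.Normal := by
    rw [← Subgroup.normalizer_eq_top_iff, eq_top_iff, ← hK0.sup_eq_top]
    refine sup_le (fun t ht => Subgroup.mem_normalizer_iff.2 fun k => ?_) Subgroup.le_normalizer
    constructor
    · intro hk
      rwa [(hcom k (coprime_orderOf_of_mem hK0co hk) t ht).eq, mul_inv_cancel_right]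
    · intro hk
      have h1 := hcom _ (coprime_orderOf_of_mem hK0co hk) t ht
      have h2 : k = t⁻¹ * (t * k * t⁻¹) * t := by group
      rw [h2, (h1.inv_left).eq, inv_mul_cancel_right]
      exact hk
  have hKmem : ∀ g : cent u, (orderOf g).Coprime q → g ∈ K0 := by
    intro g hg
    rw [← QuotientGroup.eq_one_iff, ← orderOf_eq_one_iff]
    refine Nat.eq_one_of_dvd_coprimes (hg.pow_right (cq G m q)) (orderOf_map_dvd (QuotientGroup.mk' K0) g) ?_
    refine (orderOf_dvd_natCard _).trans ?_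
    rw [← Subgroup.index_eq_card, hK0.index_eq_card, hT0c]
  refine ⟨⟨(T0 : Subgroup (cent u)).map (cent u).subtype, K0.map (cent u).subtype,
    Subgroup.map_subtype_le _, Subgroup.map_subtype_le _, T0.2.map _,
    by rw [Subgroup.card_subtype]; exact hK0co, ?_, by rw [Subgroup.card_subtype, hT0c],
    by rw [Subgroup.card_subtype, Subgroup.card_subtype]; exact hK0.card_mul,
    fun g hg hgq => ?_, fun g hg hgq => ⟨⟨g, hg⟩, hKmem _ (by rwa [← Subgroup.orderOf_coe]), rfl⟩,
    fun g hg => ?_⟩⟩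
  · rintro _ ⟨t, ht, rfl⟩ _ ⟨k, hk, rfl⟩
    exact (hcom k (coprime_orderOf_of_mem hK0co hk) t ht).map (cent u).subtype
  · obtain ⟨j, hj⟩ := hgq
    refine ⟨⟨g, hg⟩, ?_, rfl⟩
    show (⟨g, hg⟩ : cent u) ∈ (T0 : Subgroup (cent u))
    rw [← QuotientGroup.eq_one_iff, ← orderOf_eq_one_iff]
    refine Nat.eq_one_of_dvd_coprimes (Nat.Coprime.pow_left j (hqf.out.coprime_iff_not_dvd.2 T0.not_dvd_index))
      ((orderOf_map_dvd (QuotientGroup.mk' (T0 : Subgroup (cent u))) _).trans
        (by rw [← Subgroup.orderOf_coe, hj])) ?_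
    rw [Subgroup.index_eq_card]
    exact orderOf_dvd_natCard _
  · obtain ⟨t, ht, k, hk, e⟩ : ∃ t ∈ (T0 : Subgroup (cent u)), ∃ k ∈ K0, (⟨g, hg⟩ : cent u) = t * k := by
      obtain ⟨⟨⟨t, ht⟩, ⟨k, hk⟩⟩, e⟩ := hK0.surjective ⟨g, hg⟩
      exact ⟨t, ht, k, hk, e.symm⟩
    exact ⟨_, ⟨t, ht, rfl⟩, _, ⟨k, hk, rfl⟩, congrArg Subtype.val e⟩

/-- In `C(u)`, elements of `t`-power order are central, for a prime `t ≠ q` dividing `m`. -/
theorem other_part_central {q t : ℕ} [Fact q.Prime] [ht : Fact t.Prime] (hqt : q ≠ t) (hqm : q ∣ m)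
    (htm : t ∣ m) {u : G} (hu : IsPow q u) (hun : u ∉ Subgroup.center G) {s : G} (hs : s ∈ cent u)
    (hst : IsPow t s) {g : G} (hg : g ∈ cent u) : Commute g s := by
  classical
  obtain ⟨D⟩ := H.split hqm hu hun
  have hsK : s ∈ D.K := D.K_mem s hs (hst.coprime' ht.out Fact.out (Ne.symm hqt))
  obtain ⟨a, ha, b, hb, rfl⟩ := D.exists_mul g hg
  refine (D.comm a ha s hsK).mul_left ?_
  obtain ⟨S⟩ : Nonempty (Sylow t D.K) := inferInstance
  have hKt : (Nat.card D.K).factorization t = cq G m t := by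
    rw [← H.fac_cent ht.out htm hun, ← D.card, Nat.factorization_mul Nat.card_pos.ne' Nat.card_pos.ne',
      Finsupp.add_apply, D.T_card, Nat.factorization_pow, Finsupp.smul_apply,
      (Fact.out : q.Prime).factorization, Finsupp.single_eq_of_ne (Ne.symm hqt), smul_zero, zero_add]
  have htop : Subgroup.centralizer ((S : Subgroup D.K) : Set D.K) = ⊤ := by
    refine Solv.eq_top_of_forall_conj_mem _ fun h => ?_
    have hhK : (orderOf (h : G)).Coprime q := coprime_orderOf_of_mem D.K_coprime h.2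
    have hcuh : Commute u (h : G) := (mem_cent.1 (D.K_le h.2)).symm
    have hn' := mul_notMem_center hcuh (hu.coprime hhK) hun
    obtain ⟨R, hRle, hRp, hRc⟩ := H.sylow_in htm hn'
    rw [cent_mul hcuh (hu.coprime hhK)] at hRle
    have hRK : R ≤ D.K := fun r hr => D.K_mem r (Subgroup.mem_inf.1 (hRle hr)).1
      ((isPow_of_mem hRp hr).coprime' ht.out Fact.out (Ne.symm hqt))
    obtain ⟨x, hx⟩ := MulAction.exists_smul_eq D.K (Sylow.ofCard (R.subgroupOf D.K) (by
      rw [Nat.card_congr (Subgroup.subgroupOfEquivOfLe hRK).toEquiv, hRc, hKt])) S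
    refine ⟨x, Subgroup.mem_centralizer_iff.2 fun w hw => ?_⟩
    have hw' : w ∈ ((x • Sylow.ofCard (R.subgroupOf D.K) (by
      rw [Nat.card_congr (Subgroup.subgroupOfEquivOfLe hRK).toEquiv, hRc, hKt]) : Sylow t D.K) : Subgroup D.K) := by
      rw [hx]; exact hw
    rw [Sylow.coe_subgroup_smul, Subgroup.mem_pointwise_smul_iff_inv_smul_mem, MulAut.smul_def,
      MulAut.conj_inv_apply] at hw'
    have h1 : (x⁻¹ * w * x) * h = h * (x⁻¹ * w * x) :=
      Subtype.ext (mem_cent.1 (Subgroup.mem_inf.1 (hRle (Subgroup.mem_subgroupOf.1 hw'))).2)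
    calc w * (x * h * x⁻¹) = x * ((x⁻¹ * w * x) * h) * x⁻¹ := by group
      _ = (x * h * x⁻¹) * w := by rw [h1]; group
  have hcen : (S : Subgroup D.K) ≤ Subgroup.center D.K := fun z hz => Subgroup.mem_center_iff.2 fun g =>
    ((Subgroup.mem_centralizer_iff.1 (htop ▸ Subgroup.mem_top g)) z hz).symm
  haveI : (S : Subgroup D.K).Normal := ⟨fun z hz g => by
    rw [(Subgroup.mem_center_iff.1 (hcen hz)) g, mul_inv_cancel_right]; exact hz⟩
  have hsS : (⟨s, hsK⟩ : D.K) ∈ (S : Subgroup D.K) := by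
    obtain ⟨j, hj⟩ := hst
    obtain ⟨R, hR⟩ := (Solv.isPGroup_zpowers (u := (⟨s, hsK⟩ : D.K)) (k := j)
      (by rw [← hj, ← Subgroup.orderOf_coe])).exists_le_sylow
    haveI := (S.unique_of_normal (inferInstance : (S : Subgroup D.K).Normal)).instSubsingleton
    exact Subsingleton.elim R S ▸ hR (Subgroup.mem_zpowers _)
  exact congrArg Subtype.val ((Subgroup.mem_center_iff.1 (hcen hsS)) ⟨b, hb⟩)

end Hyp

end Cfsg.Agent.Perm.ThreeSizes
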