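import Cfsg.Agent.Lib.Perm.ThreeSizes.Single
import Cfsg.Agent.S4134
import Cfsg.Agent.S4365
import Mathlib.GroupTheory.Transfer

/-!
Groups with class sizes `1`, `m`, `m n`, `m` a power of `q`, with a normal `q`-complement `K`:
the structure.
-/

set_option autoImplicit false
set_option linter.style.haveILetI false
set_option linter.unusedSectionVars false

open scoped commutatorElement

namespace Cfsg.Agent.Perm.ThreeSizes

open Cfsg.Agent.Perm.CoprimeSizes

universe u

variable {G : Type u} [Group G] [Finite G] {m n q a : ℕ}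

theorem eq_one_of_shift {h j w : G} (hs : h * j * h⁻¹ = w * j) (hc : Commute h w)
    (hco : (orderOf w).Coprime (orderOf h)) : w = 1 := by
  have key : ∀ i : ℕ, h ^ i * j * (h ^ i)⁻¹ = w ^ i * j := by
    intro i
    induction i with
    | zero => simp
    | succ i ih =>
      calc h ^ (i + 1) * j * (h ^ (i + 1))⁻¹ = h * (h ^ i * j * (h ^ i)⁻¹) * h⁻¹ := by
            rw [pow_succ']; group
        _ = w ^ i * (h * j * h⁻¹) := by rw [ih, ← mul_assoc h, (hc.pow_right i).eq]; group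
        _ = w ^ (i + 1) * j := by rw [hs, ← mul_assoc, pow_succ]
  have h1 := key (orderOf h)
  rw [pow_orderOf_eq_one, one_mul, inv_one, mul_one] at h1
  exact orderOf_eq_one_iff.1 (Nat.eq_one_of_dvd_coprimes hco dvd_rfl
    (orderOf_dvd_of_pow_eq_one (right_eq_mul.1 h1)))

/-- The situation after the normal `q`-complement has been found. -/
structure Cmp (G : Type u) [Group G] [Finite G] (m n q a : ℕ) (K : Subgroup G) : Prop where
  hyp : Hyp G m n
  meq : m = q ^ a
  apos : 1 ≤ a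
  normal : K.Normal
  cop : (Nat.card K).Coprime q
  card : Nat.card K * q ^ (Nat.card G).factorization q = Nat.card G

namespace Cmp

variable [hqf : Fact q.Prime] {K : Subgroup G} (S : Cmp G m n q a K) (P : Sylow q G)
include S

theorem qm : q ∣ m := S.meq ▸ dvd_pow_self q (Nat.one_le_iff_ne_zero.1 S.apos)

theorem fac : m.factorization q = a := by
  rw [S.meq, hqf.out.factorization_pow, Finsupp.single_eq_same]

theorem cq_add' : cq G m q + a = (Nat.card G).factorization q := by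
  have := S.hyp.cq_add hqf.out S.qm
  rwa [S.fac] at this

theorem card_cent {g : G} (hg : g ∉ Subgroup.center G) :
    Nat.card (cent g) = Nat.card (K ⊓ cent g : Subgroup G) * q ^ cq G m q := by
  haveI := S.normal
  have h1 : K.index = q ^ (Nat.card G).factorization q :=
    Nat.eq_of_mul_eq_mul_left Nat.card_pos ((Subgroup.card_mul_index K).trans S.card.symm)
  obtain ⟨j, -, hj⟩ := (Nat.dvd_prime_pow hqf.out).1 (h1 ▸ K.relIndex_dvd_index_of_normal (cent g))
  have h2 := Subgroup.card_mul_index (K.subgroupOf (cent g))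
  rw [show (K.subgroupOf (cent g)).index = q ^ j from hj, ← Subgroup.inf_subgroupOf_right,
    Nat.card_congr (Subgroup.subgroupOfEquivOfLe inf_le_right).toEquiv] at h2
  have hco : ¬ q ∣ Nat.card (K ⊓ cent g : Subgroup G) := fun h => hqf.out.ne_one
    (Nat.eq_one_of_dvd_coprimes (S.cop.coprime_dvd_left (Subgroup.card_dvd_of_le inf_le_left)) h dvd_rfl)
  have h3 := S.hyp.fac_cent hqf.out S.qm hg
  rw [← h2, Nat.factorization_mul Nat.card_pos.ne' (pow_ne_zero _ hqf.out.ne_zero), Finsupp.add_apply,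
    Nat.factorization_eq_zero_of_not_dvd hco, zero_add, hqf.out.factorization_pow,
    Finsupp.single_eq_same] at h3
  rw [← h2, h3]

theorem cls_mul {g : G} (hg : g ∉ Subgroup.center G) :
    cls g * Nat.card (K ⊓ cent g : Subgroup G) = m * Nat.card K := by
  refine Nat.eq_of_mul_eq_mul_left (pow_pos hqf.out.pos (cq G m q)) ?_
  calc q ^ cq G m q * (cls g * Nat.card (K ⊓ cent g : Subgroup G))
      = Nat.card (K ⊓ cent g : Subgroup G) * q ^ cq G m q * cls g := by ring
    _ = Nat.card K * q ^ (Nat.card G).factorization q := by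
        rw [← S.card_cent hg, S.card]; exact Subgroup.card_mul_index _
    _ = q ^ cq G m q * (q ^ a * Nat.card K) := by rw [← S.cq_add', pow_add]; ring
    _ = q ^ cq G m q * (m * Nat.card K) := by rw [← S.meq]

theorem le_cent_of_m {g : G} (hg : cls g = m) : K ≤ cent g := by
  have h := S.cls_mul (S.hyp.m_notMem hg)
  rw [hg] at h
  exact inf_eq_left.1 (Subgroup.eq_of_le_of_card_ge inf_le_left
    (Nat.eq_of_mul_eq_mul_left (Nat.lt_of_succ_lt S.hyp.one_lt_m) h).ge)

theorem m_of_le {g : G} (hg : g ∉ Subgroup.center G) (h : K ≤ cent g) : cls g = m := by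
  have h1 := S.cls_mul hg
  rw [inf_eq_left.2 h] at h1
  exact Nat.eq_of_mul_eq_mul_right Nat.card_pos h1

theorem mn_of_not_le {g : G} (h : ¬ K ≤ cent g) : g ∉ Subgroup.center G ∧ cls g = m * n ∧
    n * Nat.card (K ⊓ cent g : Subgroup G) = Nat.card K := by
  have hg : g ∉ Subgroup.center G := fun hc => h fun k _ => mem_cent.2 (Subgroup.mem_center_iff.1 hc k)
  have hmn := (S.hyp.noncentral hg).resolve_left fun e => h (S.le_cent_of_m e)
  refine ⟨hg, hmn, ?_⟩
  have h1 := S.cls_mul hg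
  rw [hmn, mul_assoc] at h1
  exact Nat.eq_of_mul_eq_mul_left (Nat.lt_of_succ_lt S.hyp.one_lt_m) h1

theorem n_dvd : n ∣ Nat.card K := by
  obtain ⟨g, hg⟩ := S.hyp.exists_mn
  have h1 := S.cls_mul (S.hyp.mn_notMem hg)
  rw [hg, mul_assoc] at h1
  exact ⟨_, (Nat.eq_of_mul_eq_mul_left (Nat.lt_of_succ_lt S.hyp.one_lt_m) h1).symm⟩

theorem ne_bot : K ≠ ⊥ := fun h => by
  have := S.n_dvd
  rw [h, Subgroup.card_bot, Nat.dvd_one] at this
  exact absurd this (ne_of_gt S.hyp.one_lt_n)

theorem inf_eq_bot : K ⊓ (P : Subgroup G) = ⊥ := by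
  refine Subgroup.inf_eq_bot_of_coprime ?_
  rw [P.card_eq_multiplicity]
  exact S.cop.pow_right _

theorem sup_eq_top : K ⊔ (P : Subgroup G) = ⊤ := by
  refine Subgroup.eq_top_of_le_card _ (Nat.le_of_dvd Nat.card_pos ?_)
  rw [← S.card]
  refine Nat.Coprime.mul_dvd_of_dvd_of_dvd (S.cop.pow_right _) (Subgroup.card_dvd_of_le le_sup_left) ?_
  rw [← P.card_eq_multiplicity]
  exact Subgroup.card_dvd_of_le le_sup_right

theorem exists_mul (g : G) : ∃ k ∈ K, ∃ x ∈ (P : Subgroup G), k * x = g := by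
  haveI := S.normal
  exact Subgroup.mem_sup_of_normal_left.1 ((S.sup_eq_top P).symm ▸ Subgroup.mem_top g)

theorem card_inf_P {g : G} (hg : g ∉ Subgroup.center G) (h : g ∈ (P : Subgroup G) ∨ K ≤ cent g) :
    Nat.card ((P : Subgroup G) ⊓ cent g : Subgroup G) = q ^ cq G m q := by
  haveI := S.normal
  refine le_antisymm (S.hyp.card_le S.qm hg (P.2.to_le inf_le_left) inf_le_right) ?_
  let f : (K ⊓ cent g : Subgroup G) × ((P : Subgroup G) ⊓ cent g : Subgroup G) → cent g := fun y =>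
    ⟨(y.1 : G) * y.2, mul_mem (Subgroup.mem_inf.1 y.1.2).2 (Subgroup.mem_inf.1 y.2.2).2⟩
  have hf : Function.Surjective f := by
    rintro ⟨z, hz⟩
    obtain ⟨k, hk, x, hx, rfl⟩ := S.exists_mul P z
    have hkg : k ∈ cent g := by
      rcases h with h | h
      · have h1 : k⁻¹ * (g * k * g⁻¹) = x * g * x⁻¹ * g⁻¹ := by
          calc k⁻¹ * (g * k * g⁻¹) = k⁻¹ * (g * (k * x)) * x⁻¹ * g⁻¹ := by group
            _ = x * g * x⁻¹ * g⁻¹ := by rw [← mem_cent.1 hz]; group
        have h2 : k⁻¹ * (g * k * g⁻¹) ∈ K ⊓ (P : Subgroup G) := Subgroup.mem_inf.2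
          ⟨mul_mem (inv_mem hk) (S.normal.conj_mem k hk g),
            h1 ▸ mul_mem (mul_mem (mul_mem hx h) (inv_mem hx)) (inv_mem h)⟩
        rw [S.inf_eq_bot P, Subgroup.mem_bot, inv_mul_eq_one, eq_mul_inv_iff_mul_eq] at h2
        exact mem_cent.2 h2
      · exact h hk
    have hxg : x ∈ cent g := (Subgroup.mul_mem_cancel_left (cent g) hkg).1 hz
    exact ⟨(⟨k, Subgroup.mem_inf.2 ⟨hk, hkg⟩⟩, ⟨x, Subgroup.mem_inf.2 ⟨hx, hxg⟩⟩), rfl⟩
  have h1 := Nat.card_le_card_of_surjective f hf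
  rw [Nat.card_prod, S.card_cent hg] at h1
  exact Nat.le_of_mul_le_mul_left h1 Nat.card_pos

theorem not_P_le (hnodf : ∀ A B : Subgroup G, A.Normal → B.Normal → A ⊓ B = ⊥ → A ⊔ B = ⊤ →
    IsMulCommutative A → A = ⊥) : ¬ (P : Subgroup G) ≤ Subgroup.centralizer (K : Set G) := by
  intro hle
  haveI := S.normal
  have hc : ∀ k ∈ K, k ∈ Subgroup.center G := fun k hk =>
    S.hyp.center_sylow S.qm P fun x hx => (Subgroup.mem_centralizer_iff.1 (hle hx) k hk).symm
  have hPn : (P : Subgroup G).Normal := by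
    refine ⟨fun x hx g => ?_⟩
    obtain ⟨k, hk, y, hy, rfl⟩ := S.exists_mul P g
    have h1 := Subgroup.mem_center_iff.1 (hc k hk) (y * x * y⁻¹)
    rw [show k * y * x * (k * y)⁻¹ = k * (y * x * y⁻¹) * k⁻¹ by group, ← h1, mul_inv_cancel_right]
    exact mul_mem (mul_mem hy hx) (inv_mem hy)
  exact S.ne_bot (hnodf K P inferInstance hPn (S.inf_eq_bot P) (S.sup_eq_top P)
    ⟨⟨fun x y => Subtype.ext (Subgroup.mem_center_iff.1 (hc y y.2) x)⟩⟩)

theorem normal_centralizer : (Subgroup.centralizer (K : Set G)).Normal := by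
  refine ⟨fun x hx g => Subgroup.mem_centralizer_iff.2 fun k hk => ?_⟩
  have h1 := Subgroup.mem_centralizer_iff.1 hx _ (S.normal.conj_mem k hk g⁻¹)
  rw [inv_inv] at h1
  calc k * (g * x * g⁻¹) = g * (g⁻¹ * k * g * x) * g⁻¹ := by group
    _ = g * x * g⁻¹ * k := by rw [h1]; group

theorem abelian (hnodf : ∀ A B : Subgroup G, A.Normal → B.Normal → A ⊓ B = ⊥ → A ⊔ B = ⊤ →
    IsMulCommutative A → A = ⊥) : IsMulCommutative K := by
  classical
  haveI := S.normal
  by_contra hab
  obtain ⟨P⟩ : Nonempty (Sylow q G) := inferInstance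
  obtain ⟨x0, hx0, hx0n⟩ : ∃ x ∈ K, ¬ K ≤ cent x := by
    by_contra hc
    push Not at hc
    exact hab ⟨⟨fun x y => Subtype.ext (mem_cent.1 (hc y y.2 x.2))⟩⟩
  have hidx : ∀ x : K, (Subgroup.centralizer ({x} : Set K)).index *
      Nat.card (K ⊓ cent (x : G) : Subgroup G) = Nat.card K := by
    intro x
    have h1 : Subgroup.centralizer ({x} : Set K) = (cent (x : G)).subgroupOf K := by
      ext y
      rw [Subgroup.mem_centralizer_singleton_iff, Subgroup.mem_subgroupOf, mem_cent, Subtype.ext_iff]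
      rfl
    rw [h1, ← Subgroup.inf_subgroupOf_left,
      ← Nat.card_congr (Subgroup.subgroupOfEquivOfLe (inf_le_left : K ⊓ cent (x : G) ≤ K)).toEquiv]
    exact (mul_comm _ _).trans (Subgroup.card_mul_index _)
  have hsz : ∀ x : K, ¬ K ≤ cent (x : G) → (Subgroup.centralizer ({x} : Set K)).index = n := fun x hx =>
    Nat.eq_of_mul_eq_mul_right Nat.card_pos ((hidx x).trans (S.mn_of_not_le hx).2.2.symm)
  obtain ⟨r, hr, e, -, hall⟩ := Cfsg.Agent.S4134.result (G := K) n S.hyp.one_lt_n (fun x => by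
    by_cases hx : K ≤ cent (x : G)
    · refine Or.inl ?_
      have := hidx x
      rw [inf_eq_left.2 hx] at this
      exact Nat.eq_of_mul_eq_mul_right Nat.card_pos (this.trans (one_mul _).symm)
    · exact Or.inr (hsz x hx)) ⟨⟨x0, hx0⟩, hsz ⟨x0, hx0⟩ hx0n⟩
  obtain ⟨R⟩ : Nonempty (Sylow r K) := inferInstance
  obtain ⟨N, -, hNR, hNab, hNc⟩ := (hall R).2.1
  have hNZ : ∀ x ∈ N, x ∈ Subgroup.center K := by
    intro x hx
    refine Subgroup.mem_center_iff.2 fun g => ?_
    obtain ⟨⟨⟨b, hb⟩, ⟨y, hy⟩⟩, rfl⟩ := hNR.surjective g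
    have h1 : b * x = x * b := congrArg Subtype.val (hNab.is_comm.comm ⟨b, hb⟩ ⟨x, hx⟩)
    show b * y * x = x * (b * y)
    rw [mul_assoc, ← hNc x hx y hy, ← mul_assoc, h1, mul_assoc]
  set f := QuotientGroup.mk' (Subgroup.center K)
  have hQ : IsPGroup r (K ⧸ Subgroup.center K) := R.2.of_surjective (f.comp (R : Subgroup K).subtype) (by
    intro z
    obtain ⟨g, rfl⟩ := QuotientGroup.mk'_surjective (Subgroup.center K) z
    obtain ⟨⟨⟨b, hb⟩, ⟨y, hy⟩⟩, rfl⟩ := hNR.surjective g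
    refine ⟨⟨y, hy⟩, ?_⟩
    show f y = f (b * y)
    rw [map_mul, show f b = 1 from (QuotientGroup.eq_one_iff b).2 (hNZ b hb), one_mul])
  haveI : Nontrivial (K ⧸ Subgroup.center K) := by
    refine ⟨⟨f ⟨x0, hx0⟩, 1, fun e => hx0n fun k hk => ?_⟩⟩
    exact mem_cent.2 (congrArg Subtype.val
      (Subgroup.mem_center_iff.1 ((QuotientGroup.eq_one_iff _).1 e) ⟨k, hk⟩))
  haveI := hQ.center_nontrivial
  obtain ⟨c, hc1⟩ := exists_ne (1 : Subgroup.center (K ⧸ Subgroup.center K))
  obtain ⟨u0, hu0⟩ := QuotientGroup.mk'_surjective (Subgroup.center K) (c : K ⧸ Subgroup.center K)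
  have hu0n : ¬ K ≤ cent (u0 : G) := fun hle => hc1 (Subtype.ext (by
    rw [← hu0]
    exact (QuotientGroup.eq_one_iff u0).2
      (Subgroup.mem_center_iff.2 fun g => Subtype.ext (mem_cent.1 (hle g.2)))))
  have hu0c : ∀ k ∈ K, ∀ j ∈ K, j * ⁅(u0 : G), k⁆ = ⁅(u0 : G), k⁆ * j := by
    intro k hk j hj
    have h1 : ⁅u0, (⟨k, hk⟩ : K)⁆ ∈ Subgroup.center K := by
      refine (QuotientGroup.eq_one_iff _).1 ?_
      show f _ = 1
      rw [map_commutatorElement, commutatorElement_eq_one_iff_mul_comm,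
        show f u0 = (c : K ⧸ Subgroup.center K) from hu0]
      exact (Subgroup.mem_center_iff.1 c.2 _).symm
    exact congrArg Subtype.val (Subgroup.mem_center_iff.1 h1 ⟨j, hj⟩)
  -- conjugate `u0` so that `P` contains a Sylow subgroup of its centralizer
  obtain ⟨T, hT, hTp, hTc⟩ := S.hyp.sylow_in S.qm (S.mn_of_not_le hu0n).1
  obtain ⟨T', hT'⟩ := hTp.exists_le_sylow
  obtain ⟨g, hg⟩ := MulAction.exists_smul_eq G T' P
  set u := g * (u0 : G) * g⁻¹ with hu
  have huK : u ∈ K := S.normal.conj_mem _ u0.2 g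
  have hun : ¬ K ≤ cent u := fun hle => hu0n fun k hk => by
    have := hle (S.normal.conj_mem k hk g)
    rw [hu, cent_conj_mem] at this
    simpa [mul_assoc] using this
  obtain ⟨hunc, humn, hucard⟩ := S.mn_of_not_le hun
  have huc : ∀ k ∈ K, ∀ j ∈ K, j * ⁅u, k⁆ = ⁅u, k⁆ * j := by
    intro k hk j hj
    have h1 := hu0c (g⁻¹ * k * g⁻¹⁻¹) (S.normal.conj_mem k hk g⁻¹) (g⁻¹ * j * g⁻¹⁻¹)
      (S.normal.conj_mem j hj g⁻¹)
    rw [inv_inv] at h1
    have h2 : ⁅u, k⁆ = g * ⁅(u0 : G), g⁻¹ * k * g⁆ * g⁻¹ := by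
      simp only [hu, commutatorElement_def]; group
    rw [h2]
    calc j * (g * ⁅(u0 : G), g⁻¹ * k * g⁆ * g⁻¹)
        = g * (g⁻¹ * j * g * ⁅(u0 : G), g⁻¹ * k * g⁆) * g⁻¹ := by group
      _ = _ := by rw [h1]; group
  have hTu : Nat.card ((P : Subgroup G) ⊓ cent u : Subgroup G) = q ^ cq G m q := by
    refine le_antisymm (S.hyp.card_le S.qm hunc (P.2.to_le inf_le_left) inf_le_right) ?_
    rw [← hTc, Nat.card_congr
      (Subgroup.equivMapOfInjective T (MulAut.conj g).toMonoidHom (MulAut.conj g).injective).toEquiv]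
    refine Subgroup.card_le_of_le (le_inf ?_ ?_)
    · rw [← hg, Sylow.coe_subgroup_smul]; exact Subgroup.map_mono hT'
    · rintro _ ⟨t, ht, rfl⟩
      exact mem_cent_conj (hT ht)
  have huq : (orderOf u).Coprime q := coprime_orderOf_of_mem S.cop huK
  have key : ∀ t ∈ (P : Subgroup G), t ∈ cent u → K ≤ cent t := by
    intro t ht htu
    by_contra hn
    obtain ⟨-, htmn, -⟩ := S.mn_of_not_le hn
    have htp : IsPow q t := isPow_of_mem P.2 ht
    have htu' : Commute t u := mem_cent.1 htu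
    have he : cent t = cent u := eq_of_le_cls (S.hyp.cent_le_of_mn htmn htu' (htp.coprime huq)).1
      (by rw [htmn, humn])
    refine hn fun k hk => ?_
    set d := k⁻¹ * (t * k * t⁻¹) with hd
    have hdK : d ∈ K := mul_mem (inv_mem hk) (S.normal.conj_mem k hk t)
    have hz : ⁅u, k⁆ ∈ cent t := by
      rw [he, mem_cent]; exact (huc k hk u huK).symm
    have h3 : ⁅u, t * k * t⁻¹⁆ = ⁅u, k⁆ := by
      calc ⁅u, t * k * t⁻¹⁆ = u * t * k * t⁻¹ * u⁻¹ * t * k⁻¹ * t⁻¹ := by
            rw [commutatorElement_def]; group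
        _ = t * u * k * t⁻¹ * u⁻¹ * t * k⁻¹ * t⁻¹ := by rw [htu'.eq]
        _ = t * ⁅u, k⁆ * t⁻¹ := by
            rw [mul_assoc (t * u * k) t⁻¹ u⁻¹, ← mul_inv_rev, ← htu'.eq, commutatorElement_def]; group
        _ = ⁅u, k⁆ := by rw [← mem_cent.1 hz, mul_inv_cancel_right]
    have hdu : d ∈ cent u := by
      rw [commutatorElement_def, commutatorElement_def] at h3
      rw [mem_cent, hd]
      calc k⁻¹ * (t * k * t⁻¹) * u = k⁻¹ * (t * k * t⁻¹ * u * (t * k * t⁻¹)⁻¹) * (t * k * t⁻¹) := by group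
        _ = k⁻¹ * (k * u * k⁻¹) * (t * k * t⁻¹) := by
            congr 2
            calc t * k * t⁻¹ * u * (t * k * t⁻¹)⁻¹
                = (u * (t * k * t⁻¹) * u⁻¹ * (t * k * t⁻¹)⁻¹)⁻¹ * u := by group
              _ = (u * k * u⁻¹ * k⁻¹)⁻¹ * u := by rw [h3]
              _ = k * u * k⁻¹ := by group
        _ = u * (k⁻¹ * (t * k * t⁻¹)) := by group
    have hd1 : d = 1 := by
      have hdk : Commute t d := (mem_cent.1 (he.symm ▸ hdu)).symm
      have hdj : t * k⁻¹ * t⁻¹ = d⁻¹ * k⁻¹ := by rw [hd]; group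
      have := eq_one_of_shift hdj hdk.inv_right
        (by rw [orderOf_inv]; exact (htp.coprime (coprime_orderOf_of_mem S.cop hdK)).symm)
      exact inv_eq_one.1 this
    rw [hd, inv_mul_eq_one, eq_mul_inv_iff_mul_eq] at hd1
    exact mem_cent.2 hd1
  obtain ⟨h, hh, hhn⟩ := SetLike.not_le_iff_exists.1 (S.not_P_le P hnodf)
  have hhK : ¬ K ≤ cent h := fun hle => hhn (Subgroup.mem_centralizer_iff.2 fun k hk => mem_cent.1 (hle hk))
  obtain ⟨hhnc, hhmn, hhcard⟩ := S.mn_of_not_le hhK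
  obtain ⟨k, hk, hkn⟩ : ∃ k ∈ K ⊓ cent h, ¬ K ≤ cent k := by
    by_contra hc
    push Not at hc
    have hle : K ⊓ cent h ≤ K ⊓ cent u := fun k hk => Subgroup.mem_inf.2
      ⟨(Subgroup.mem_inf.1 hk).1, mem_cent.2 (mem_cent.1 (hc k hk huK)).symm⟩
    have he := Subgroup.eq_of_le_of_card_ge hle
      (Nat.eq_of_mul_eq_mul_left (Nat.lt_of_succ_lt S.hyp.one_lt_n) (hucard.trans hhcard.symm)).le
    exact hun (hc u (he ▸ Subgroup.mem_inf.2 ⟨huK, self_mem_cent u⟩))
  obtain ⟨hkK, hkh⟩ := Subgroup.mem_inf.1 hk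
  obtain ⟨hknc, -, -⟩ := S.mn_of_not_le hkn
  have hle : ((P : Subgroup G) ⊓ cent u) ⊔ Subgroup.zpowers h ≤ cent k := by
    refine sup_le (fun t ht => ?_) (Subgroup.zpowers_le.2 (mem_cent_comm.1 hkh))
    exact mem_cent_comm.1 ((key t (Subgroup.mem_inf.1 ht).1 (Subgroup.mem_inf.1 ht).2) hkK)
  have h1 := Subgroup.eq_of_le_of_card_ge (le_sup_left : (P : Subgroup G) ⊓ cent u ≤ _)
    (hTu ▸ S.hyp.card_le S.qm hknc (P.2.to_le (sup_le inf_le_left (Subgroup.zpowers_le.2 hh))) hle)
  have hhu : h ∈ cent u :=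
    (Subgroup.mem_inf.1 (h1.symm ▸ Subgroup.mem_sup_right (Subgroup.mem_zpowers h))).2
  exact hhK (key h hh hhu)

open scoped IsMulCommutative in
theorem inf_center (hnodf : ∀ A B : Subgroup G, A.Normal → B.Normal → A ⊓ B = ⊥ → A ⊔ B = ⊤ →
    IsMulCommutative A → A = ⊥) : K ⊓ Subgroup.center G = ⊥ := by
  classical
  haveI := S.normal
  haveI := S.abelian hnodf
  obtain ⟨P⟩ : Nonempty (Sylow q G) := inferInstance
  let V : G →* K := MonoidHom.transfer (MonoidHom.id K)
  have hidx : K.index = q ^ (Nat.card G).factorization q :=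
    Nat.eq_of_mul_eq_mul_left Nat.card_pos ((Subgroup.card_mul_index K).trans S.card.symm)
  refine hnodf _ V.ker inferInstance inferInstance ?_ ?_
    ⟨⟨fun x y => Subtype.ext (Subgroup.mem_center_iff.1 (Subgroup.mem_inf.1 y.2).2 x)⟩⟩
  · rw [eq_bot_iff]
    intro c hc
    obtain ⟨hc1, hc2⟩ := Subgroup.mem_inf.1 hc
    obtain ⟨hcK, hcZ⟩ := Subgroup.mem_inf.1 hc1
    have h1 := MonoidHom.transfer_eq_pow (MonoidHom.id K) c fun i g₀ _ => by
      rw [mul_assoc, ← (Subgroup.mem_center_iff.1 (pow_mem hcZ i) g₀), inv_mul_cancel_left]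
    rw [show MonoidHom.transfer (MonoidHom.id K) c = 1 from hc2] at h1
    have h2 : c ^ K.index = 1 := (congrArg Subtype.val h1).symm
    rw [Subgroup.mem_bot, ← orderOf_eq_one_iff]
    exact Nat.eq_one_of_dvd_coprimes ((coprime_orderOf_of_mem S.cop hcK).pow_right _) dvd_rfl
      (hidx ▸ orderOf_dvd_of_pow_eq_one h2)
  · have hP : (P : Subgroup G) ≤ V.ker := fun x hx => by
      rw [MonoidHom.mem_ker, ← orderOf_eq_one_iff]
      obtain ⟨j, hj⟩ := isPow_of_mem P.2 hx
      exact Nat.eq_one_of_dvd_coprimes (S.cop.pow_right j) (orderOf_dvd_natCard _)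
        (hj ▸ orderOf_map_dvd V x)
    rw [eq_top_iff, ← S.sup_eq_top P]
    refine sup_le (fun k hk => ?_) (hP.trans le_sup_right)
    haveI : Fintype (P : Subgroup G) := Fintype.ofFinite _
    let σ : K := ∏ x : (P : Subgroup G), (⟨(x : G) * k * (x : G)⁻¹, S.normal.conj_mem k hk x⟩ : K)
    have hσ : (σ : G) ∈ Subgroup.center G := by
      refine S.hyp.center_sylow S.qm P fun y hy => ?_
      let A : K →* K := ((MulAut.conjNormal (H := K) y).toMonoidHom : K →* K)
      have hA : A σ = σ := by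
        show A (∏ x : (P : Subgroup G), _) = _
        rw [map_prod]
        refine Fintype.prod_equiv (Equiv.mulLeft ⟨y, hy⟩) _ _ fun x => Subtype.ext ?_
        show y * ((x : G) * k * (x : G)⁻¹) * y⁻¹ = y * x * k * (y * x)⁻¹
        group
      have h1 : y * (σ : G) * y⁻¹ = σ := congrArg Subtype.val hA
      exact mul_inv_eq_iff_eq_mul.1 h1
    have hV : V σ = V k ^ Nat.card (P : Subgroup G) := by
      show (V.comp K.subtype) (∏ x : (P : Subgroup G), _) = _
      rw [map_prod, Nat.card_eq_fintype_card, ← Finset.card_univ, ← Finset.prod_const]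
      refine Finset.prod_congr rfl fun x _ => ?_
      show V ((x : G) * k * (x : G)⁻¹) = V k
      rw [map_mul, map_mul, map_inv, mul_right_comm, mul_inv_cancel, one_mul]
    have hmem : k ^ Nat.card (P : Subgroup G) ∈ K ⊓ Subgroup.center G ⊔ V.ker := by
      rw [show k ^ Nat.card (P : Subgroup G) = (σ : G) * ((σ : G)⁻¹ * k ^ Nat.card (P : Subgroup G)) by group]
      refine Subgroup.mul_mem_sup (Subgroup.mem_inf.2 ⟨σ.2, hσ⟩) ?_
      rw [MonoidHom.mem_ker, map_mul, map_inv, map_pow, hV, inv_mul_cancel]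
    obtain ⟨i, hi⟩ := exists_pow_eq_self_of_coprime (x := k) (n := Nat.card (P : Subgroup G)) (by
      rw [P.card_eq_multiplicity]; exact ((coprime_orderOf_of_mem S.cop hk).pow_right _).symm)
    rw [← hi]
    exact pow_mem hmem i

theorem notMem_center (hnodf : ∀ A B : Subgroup G, A.Normal → B.Normal → A ⊓ B = ⊥ → A ⊔ B = ⊤ →
    IsMulCommutative A → A = ⊥) {k : G} (hk : k ∈ K) (h1 : k ≠ 1) : k ∉ Subgroup.center G := fun hc =>
  h1 (Subgroup.mem_bot.1 (S.inf_center hnodf ▸ Subgroup.mem_inf.2 ⟨hk, hc⟩))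

/-- A fixed-point-free element of `P`, central modulo `C(K)`. -/
theorem exists_fpf (hnodf : ∀ A B : Subgroup G, A.Normal → B.Normal → A ⊓ B = ⊥ → A ⊔ B = ⊤ →
    IsMulCommutative A → A = ⊥) :
    ∃ h ∈ (P : Subgroup G), ¬ K ≤ cent h ∧ K ⊓ cent h = ⊥ ∧
      ∀ x ∈ (P : Subgroup G), ⁅x, h⁆ ∈ Subgroup.centralizer (K : Set G) := by
  classical
  haveI := S.normal
  set C := Subgroup.centralizer (K : Set G) with hC
  haveI : C.Normal := S.normal_centralizer
  have hab : ∀ x ∈ K, ∀ y ∈ K, x * y = y * x := fun x hx y hy =>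
    congrArg Subtype.val ((S.abelian hnodf).is_comm.comm ⟨x, hx⟩ ⟨y, hy⟩)
  have hQ : IsPGroup q ((P : Subgroup G) ⧸ C.subgroupOf (P : Subgroup G)) := P.2.to_quotient _
  obtain ⟨x0, hx0, hx0n⟩ := SetLike.not_le_iff_exists.1 (S.not_P_le P hnodf)
  haveI : Nontrivial ((P : Subgroup G) ⧸ C.subgroupOf (P : Subgroup G)) :=
    ⟨⟨QuotientGroup.mk ⟨x0, hx0⟩, 1, fun e => hx0n
      (Subgroup.mem_subgroupOf.1 ((QuotientGroup.eq_one_iff _).1 e))⟩⟩
  haveI := hQ.center_nontrivial
  obtain ⟨c, hc1⟩ := exists_ne (1 : Subgroup.center ((P : Subgroup G) ⧸ C.subgroupOf (P : Subgroup G)))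
  obtain ⟨⟨h, hh⟩, hhc⟩ := QuotientGroup.mk'_surjective (C.subgroupOf (P : Subgroup G))
    (c : (P : Subgroup G) ⧸ C.subgroupOf (P : Subgroup G))
  have hhn : ¬ K ≤ cent h := fun hle => hc1 (Subtype.ext (by
    rw [← hhc]
    exact (QuotientGroup.eq_one_iff _).2 (Subgroup.mem_subgroupOf.2
      (Subgroup.mem_centralizer_iff.2 fun k hk => mem_cent.1 (hle hk)))))
  have hhx : ∀ x ∈ (P : Subgroup G), ⁅x, h⁆ ∈ C := by
    intro x hx
    have h1 : QuotientGroup.mk' (C.subgroupOf (P : Subgroup G)) ⁅(⟨x, hx⟩ : (P : Subgroup G)), ⟨h, hh⟩⁆ = 1 := by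
      rw [map_commutatorElement, commutatorElement_eq_one_iff_mul_comm, hhc]
      exact Subgroup.mem_center_iff.1 c.2 _
    exact Subgroup.mem_subgroupOf.1 ((QuotientGroup.eq_one_iff _).1 h1)
  refine ⟨h, hh, hhn, ?_, hhx⟩
  obtain ⟨hhnc, hhmn, -⟩ := S.mn_of_not_le hhn
  rw [eq_bot_iff]
  intro u hu
  rw [Subgroup.mem_bot]
  by_contra hu1
  obtain ⟨huK, huh⟩ := Subgroup.mem_inf.1 hu
  obtain ⟨k, hk, hkh⟩ := SetLike.not_le_iff_exists.1 hhn
  set v := h * k * h⁻¹ * k⁻¹ with hv
  have hhq : ∀ w ∈ K, (orderOf w).Coprime (orderOf h) := fun w hw =>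
    ((isPow_of_mem P.2 hh).coprime (coprime_orderOf_of_mem S.cop hw)).symm
  have hvK : v ∈ K := mul_mem (S.normal.conj_mem k hk h) (inv_mem hk)
  have hvne : ¬ Commute h v := fun hc => hkh (by
    have h1 : v = 1 := eq_one_of_shift (h := h) (j := k) (by rw [hv]; group) hc (hhq v hvK)
    rw [hv, mul_inv_eq_one, mul_inv_eq_iff_eq_mul] at h1
    exact mem_cent.2 h1.symm)
  have hv1 : v ≠ 1 := fun e => hvne (e ▸ Commute.one_right h)
  have huv1 : u * v ≠ 1 := fun e => hvne (by
    rw [← inv_eq_of_mul_eq_one_right e]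
    exact (show Commute u h from mem_cent.1 huh).symm.inv_right)
  have hcard : ∀ w ∈ K, w ≠ 1 → Nat.card ((P : Subgroup G) ⊓ cent w : Subgroup G) = q ^ cq G m q :=
    fun w hw hw1 => S.card_inf_P P (S.notMem_center hnodf hw hw1) (Or.inr fun y hy => mem_cent.2 (hab y hy w hw))
  have hfix : (P : Subgroup G) ⊓ cent (u * v) ≤ ((P : Subgroup G) ⊓ cent u) ⊓ cent v := by
    intro x hx
    obtain ⟨hxP, hxc⟩ := Subgroup.mem_inf.1 hx
    have ht := Subgroup.mem_centralizer_iff.1 (hhx x hxP)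
    rw [commutatorElement_def] at ht
    generalize htdef : x * h * x⁻¹ * h⁻¹ = t at ht
    set u' := x * u * x⁻¹ with hu'
    set k' := x * k * x⁻¹ with hk'
    have hk'K : k' ∈ K := S.normal.conj_mem k hk x
    have hu'K : u' ∈ K := S.normal.conj_mem u huK x
    have hu'h : Commute h u' := by
      have h1 : (x * h * x⁻¹) * u' = u' * (x * h * x⁻¹) := by
        calc (x * h * x⁻¹) * u' = x * (h * u) * x⁻¹ := by rw [hu']; group
          _ = u' * (x * h * x⁻¹) := by rw [← mem_cent.1 huh, hu']; group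
      have h2 : x * h * x⁻¹ = t * h := by rw [← htdef]; group
      rw [h2] at h1
      refine mul_left_cancel (a := t) ?_
      rw [← mul_assoc, h1, ← mul_assoc, ← mul_assoc, ht u' hu'K]
    have hv' : x * v * x⁻¹ = h * k' * h⁻¹ * k'⁻¹ := by
      calc x * v * x⁻¹ = t * (h * k' * h⁻¹) * t⁻¹ * k'⁻¹ := by rw [← htdef, hk', hv]; group
        _ = h * k' * h⁻¹ * k'⁻¹ := by
            rw [← ht _ (S.normal.conj_mem k' hk'K h), mul_inv_cancel_right]
    have he : u' * (h * k' * h⁻¹ * k'⁻¹) = u * v := by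
      rw [← hv', hu']
      calc x * u * x⁻¹ * (x * v * x⁻¹) = x * (u * v) * x⁻¹ := by group
        _ = u * v := by rw [mem_cent.1 hxc, mul_inv_cancel_right]
    have hv'K : h * k' * h⁻¹ * k'⁻¹ ∈ K := mul_mem (S.normal.conj_mem k' hk'K h) (inv_mem hk'K)
    have hw : u⁻¹ * u' = 1 := by
      refine eq_one_of_shift (h := h) (j := k * k'⁻¹) ?_
        ((show Commute u h from mem_cent.1 huh).symm.inv_right.mul_right hu'h)
        (hhq _ (mul_mem (inv_mem huK) hu'K))
      have h1 : u⁻¹ * u' = v * (h * k' * h⁻¹ * k'⁻¹)⁻¹ := by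
        rw [eq_mul_inv_iff_mul_eq, mul_assoc, he, inv_mul_cancel_left]
      have h2 := hab _ (mul_mem (inv_mem hk) hk'K) _ (S.normal.conj_mem k'⁻¹ (inv_mem hk'K) h)
      rw [h1]
      calc h * (k * k'⁻¹) * h⁻¹
          = h * k * h⁻¹ * ((h * k'⁻¹ * h⁻¹) * (k⁻¹ * k')) * (k⁻¹ * k')⁻¹ := by group
        _ = v * (h * k' * h⁻¹ * k'⁻¹)⁻¹ * (k * k'⁻¹) := by
            rw [← h2, hv, show (k⁻¹ * k')⁻¹ = k * k'⁻¹ by
              rw [mul_inv_rev, inv_inv, hab k hk k'⁻¹ (inv_mem hk'K)]]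
            group
    rw [inv_mul_eq_one] at hw
    have hxu : x ∈ cent u := mem_cent.2 (by
      rw [← mul_inv_eq_iff_eq_mul, ← hu', ← hw])
    refine Subgroup.mem_inf.2 ⟨Subgroup.mem_inf.2 ⟨hxP, hxu⟩, mem_cent.2 ?_⟩
    rw [← mul_inv_eq_iff_eq_mul, hv']
    rw [← hw] at he
    exact mul_left_cancel he
  have heq := Subgroup.eq_of_le_of_card_ge (hfix.trans inf_le_left)
    (by rw [hcard u huK hu1, hcard _ (mul_mem huK hvK) huv1])
  have hhuv : h ∈ (P : Subgroup G) ⊓ cent (u * v) := heq.symm ▸ Subgroup.mem_inf.2 ⟨hh, mem_cent_comm.1 huh⟩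
  exact hvne (mem_cent.1 (Subgroup.mem_inf.1 (hfix hhuv)).2)

/-- Everything about `P` and `K`. -/
theorem final (hnodf : ∀ A B : Subgroup G, A.Normal → B.Normal → A ⊓ B = ⊥ → A ⊔ B = ⊤ →
    IsMulCommutative A → A = ⊥) :
    a = 1 ∧ q ∣ n - 1 ∧ IsMulCommutative (Subgroup.centralizer (K : Set G)) ∧
      (Subgroup.centralizer (K : Set G)).index = q ∧
      Nat.card (commutator (P : Subgroup G)) = q := by
  classical
  haveI := S.normal
  have hq : q.Prime := hqf.out
  set C := Subgroup.centralizer (K : Set G) with hC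
  haveI : C.Normal := S.normal_centralizer
  set c := cq G m q with hc
  haveI hKab := S.abelian hnodf
  have hab : ∀ x ∈ K, ∀ y ∈ K, x * y = y * x := fun x hx y hy =>
    congrArg Subtype.val (hKab.is_comm.comm ⟨x, hx⟩ ⟨y, hy⟩)
  obtain ⟨h, hh, hhn, hh1, hhx⟩ := S.exists_fpf P hnodf
  have hnC : ∀ {x : G}, x ∉ C → ¬ K ≤ cent x := fun hx hle =>
    hx (Subgroup.mem_centralizer_iff.2 fun k hk => mem_cent.1 (hle hk))
  have hhC : h ∉ C := fun hc => hhn fun k hk => mem_cent.2 (Subgroup.mem_centralizer_iff.1 hc k hk)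
  have hKn : Nat.card K = n := by
    have := (S.mn_of_not_le hhn).2.2
    rw [hh1, Subgroup.card_bot, mul_one] at this
    exact this.symm
  have hfree : ∀ x : G, x ∉ C → K ⊓ cent x = ⊥ := by
    intro x hx
    have := (S.mn_of_not_le (hnC hx)).2.2
    rw [hKn] at this
    exact Subgroup.card_eq_one.1 (mul_eq_left₀ (Nat.lt_of_succ_lt S.hyp.one_lt_n).ne'|>.1 this)
  -- `q`-th powers of elements of `P` centralize `K`
  have hPc : Nat.card (P : Subgroup G) = q ^ (c + a) := by rw [P.card_eq_multiplicity, ← S.cq_add']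
  have hcentP : ∀ x : (P : Subgroup G), (Subgroup.centralizer ({x} : Set (P : Subgroup G))).index *
      Nat.card ((P : Subgroup G) ⊓ cent (x : G) : Subgroup G) = q ^ (c + a) := by
    intro x
    have h1 : Subgroup.centralizer ({x} : Set (P : Subgroup G)) = (cent (x : G)).subgroupOf P := by
      ext y
      rw [Subgroup.mem_centralizer_singleton_iff, Subgroup.mem_subgroupOf, mem_cent, Subtype.ext_iff]
      rfl
    rw [h1, ← Subgroup.inf_subgroupOf_left, ← hPc,
      ← Nat.card_congr (Subgroup.subgroupOfEquivOfLe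
        (inf_le_left : (P : Subgroup G) ⊓ cent (x : G) ≤ (P : Subgroup G))).toEquiv]
    exact (mul_comm _ _).trans (Subgroup.card_mul_index _)
  have hcn : ∀ x : (P : Subgroup G), (x : G) ∉ Subgroup.center G →
      (Subgroup.centralizer ({x} : Set (P : Subgroup G))).index = q ^ a := fun x hx => by
    have h1 := hcentP x
    rw [S.card_inf_P P hx (Or.inl x.2), ← hc, pow_add, mul_comm (q ^ c)] at h1
    exact Nat.eq_of_mul_eq_mul_right (pow_pos hq.pos _) h1
  have hcs : {k : ℕ | ∃ x : (P : Subgroup G), (Subgroup.centralizer ({x} : Set (P : Subgroup G))).index = k} =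
      {1, q ^ a} := by
    ext k
    constructor
    · rintro ⟨x, rfl⟩
      by_cases hx : (x : G) ∈ Subgroup.center G
      · refine Or.inl (Subgroup.index_eq_one.2 (eq_top_iff.2 fun y _ => ?_))
        exact Subgroup.mem_centralizer_singleton_iff.2 (Subtype.ext (Subgroup.mem_center_iff.1 hx y))
      · exact Or.inr (hcn x hx)
    · rintro (rfl | rfl)
      · refine ⟨1, Subgroup.index_eq_one.2 (eq_top_iff.2 fun y _ => ?_)⟩
        exact Subgroup.mem_centralizer_singleton_iff.2 (by simp)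
      · exact ⟨⟨h, hh⟩, hcn _ (S.mn_of_not_le hhn).1⟩
  have hpow : ∀ x ∈ (P : Subgroup G), x ^ q ∈ C := by
    intro x hx
    have h1 := Cfsg.Agent.S4365.result q P.2 a S.apos hcs ⟨x, hx⟩
    have h2 : x ^ q ∈ Subgroup.center G := S.hyp.center_sylow S.qm P fun y hy =>
      congrArg Subtype.val (Subgroup.mem_center_iff.1 h1 ⟨y, hy⟩)
    exact Subgroup.center_le_centralizer _ h2
  have htriv : ∀ t ∈ C, ∀ b ∈ K, t * b * t⁻¹ = b := fun t ht b hb => by
    rw [← Subgroup.mem_centralizer_iff.1 ht b hb, mul_inv_cancel_right]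
  have hline : ∀ x : G, x ∉ C → ∀ w ∈ K, x * w * x⁻¹ = w → w ∈ (⊥ : Subgroup G) := by
    intro x hx w hw he
    rw [← hfree x hx]
    exact Subgroup.mem_inf.2 ⟨hw, mem_cent.2 (mul_inv_eq_iff_eq_mul.1 he).symm⟩
  -- `P` is generated by `P ⊓ C` and `h`
  set C' := C.subgroupOf (P : Subgroup G) with hC'
  set h' : (P : Subgroup G) := ⟨h, hh⟩ with hh'
  have hgen : ∀ x : (P : Subgroup G), x ∈ C' ⊔ Subgroup.zpowers h' := by
    intro x
    by_contra hx
    have hxj : ∀ j : ℕ, (x : G) * h ^ j ∉ C := fun j hj => hx (by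
      rw [show x = (x * h' ^ j) * (h' ^ j)⁻¹ by group]
      exact mul_mem (Subgroup.mem_sup_left (Subgroup.mem_subgroupOf.2 hj))
        (inv_mem (pow_mem (Subgroup.mem_sup_right (Subgroup.mem_zpowers _)) j)))
    have hN : ∀ y : G, y ∈ Subgroup.normalizer (K : Set G) := fun y => by
      rw [Subgroup.normalizer_eq_top]; exact Subgroup.mem_top y
    refine S.ne_bot (eq_bot_iff.2 fun b hb => ?_)
    have h1 := norm_one_or_central (q := q) hKab (hN h) (hN (x : G)) (fun w hw => ?_)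
      (fun w hw => htriv _ (hpow h hh) w hw) ⊥ (fun z hz => by rw [Subgroup.mem_bot.1 hz, mul_one, one_mul])
      (hline h hhC) (fun j w hw => htriv _ (hpow _ (mul_mem x.2 (pow_mem hh j))) w hw)
      (fun j => hline _ (hxj j)) hb
    · rw [Subgroup.mem_bot] at h1 ⊢
      exact orderOf_eq_one_iff.1 (Nat.eq_one_of_dvd_coprimes (coprime_orderOf_of_mem S.cop hb) dvd_rfl
        (orderOf_dvd_of_pow_eq_one h1))
    · have h3 := htriv _ (hhx x x.2) _ (S.normal.conj_mem w hw (h * (x : G)))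
      calc (x : G) * (h * w * h⁻¹) * (x : G)⁻¹
          = ⁅(x : G), h⁆ * (h * x * w * (h * x)⁻¹) * ⁅(x : G), h⁆⁻¹ := by
            rw [commutatorElement_def]; group
        _ = h * x * w * (h * x)⁻¹ := h3
        _ = h * (x * w * (x : G)⁻¹) * h⁻¹ := by group
  haveI hC'n : C'.Normal := (inferInstance : C.Normal).subgroupOf _
  have hidxC : C'.index = q := by
    set f := QuotientGroup.mk' C'
    have hsurj : ∀ y, y ∈ Subgroup.zpowers (f h') := by
      intro y
      obtain ⟨x, rfl⟩ := QuotientGroup.mk'_surjective C' y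
      obtain ⟨t, ht, w, hw, rfl⟩ := Subgroup.mem_sup_of_normal_left.1 (hgen x)
      obtain ⟨i, rfl⟩ := Subgroup.mem_zpowers_iff.1 hw
      rw [map_mul, map_zpow, show f t = 1 from (QuotientGroup.eq_one_iff t).2 ht, one_mul]
      exact zpow_mem (Subgroup.mem_zpowers _) i
    rw [Subgroup.index_eq_card, ← orderOf_eq_card_of_forall_mem_zpowers hsurj]
    refine orderOf_eq_prime ?_ fun e => hhC (Subgroup.mem_subgroupOf.1 ((QuotientGroup.eq_one_iff _).1 e))
    rw [← map_pow]
    exact (QuotientGroup.eq_one_iff _).2 (Subgroup.mem_subgroupOf.2 (hpow h hh))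
  set P0 := (P : Subgroup G) ⊓ C with hP0
  have hP0q : Nat.card P0 * q = q ^ (c + a) := by
    have h1 := Subgroup.card_mul_index C'
    rwa [hidxC, hPc, hC', ← Subgroup.inf_subgroupOf_left,
      Nat.card_congr (Subgroup.subgroupOfEquivOfLe inf_le_left).toEquiv] at h1
  obtain ⟨k, hk, hk1⟩ : ∃ k ∈ K, k ≠ (1 : G) := by
    by_contra hc
    push Not at hc
    exact S.ne_bot (eq_bot_iff.2 fun k hk => Subgroup.mem_bot.2 (hc k hk))
  have hKk : K ≤ cent k := fun y hy => mem_cent.2 (hab y hy k hk)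
  have hknc := S.notMem_center hnodf hk hk1
  have hkc : Nat.card ((P : Subgroup G) ⊓ cent k : Subgroup G) = q ^ c :=
    S.card_inf_P P hknc (Or.inr hKk)
  have hCk : C ≤ cent k := fun t ht => mem_cent.2 (Subgroup.mem_centralizer_iff.1 ht k hk).symm
  have ha1 : a = 1 := by
    have h1 : Nat.card P0 ≤ q ^ c := hkc ▸ Subgroup.card_le_of_le (inf_le_inf_left _ hCk)
    have h2 : q ^ (c + a) ≤ q ^ (c + 1) := by
      rw [← hP0q, pow_succ]; exact Nat.mul_le_mul_right q h1
    have := (Nat.pow_le_pow_iff_right hq.one_lt).1 h2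
    have := S.apos
    omega
  have hP0c : Nat.card P0 = q ^ c := by
    rw [ha1, pow_succ] at hP0q
    exact Nat.eq_of_mul_eq_mul_right hq.pos hP0q
  have hP0k : P0 = (P : Subgroup G) ⊓ cent k :=
    Subgroup.eq_of_le_of_card_ge (inf_le_inf_left _ hCk) (hkc.trans hP0c.symm).le
  have hCeq : C = cent k := by
    refine le_antisymm hCk fun z hz => ?_
    obtain ⟨y, hy, x, hx, rfl⟩ := S.exists_mul P z
    have hxk : x ∈ cent k := (Subgroup.mul_mem_cancel_left (cent k) (hKk hy)).1 hz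
    refine mul_mem (Subgroup.mem_centralizer_iff.2 fun w hw => hab w hw y hy) ?_
    exact (Subgroup.mem_inf.1 (hP0k ▸ Subgroup.mem_inf.2 ⟨hx, hxk⟩ : x ∈ P0)).2
  have hkm : cls k = m := S.m_of_le hknc hKk
  have hCidx : C.index = q := by
    rw [hCeq]; exact hkm.trans (by rw [S.meq, ha1, pow_one])
  have hKC : ∀ y ∈ K, C ≤ cent y := fun y hy t ht =>
    mem_cent.2 (Subgroup.mem_centralizer_iff.1 ht y hy).symm
  have hP0C : ∀ x ∈ P0, C ≤ cent x := by
    intro x hx
    obtain ⟨hxP, hxC⟩ := Subgroup.mem_inf.1 hx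
    by_cases hxn : x ∈ Subgroup.center G
    · exact fun t _ => mem_cent.2 (Subgroup.mem_center_iff.1 hxn t)
    have hcomm : Commute k x := Subgroup.mem_centralizer_iff.1 hxC k hk
    have hco : (orderOf k).Coprime (orderOf x) :=
      ((isPow_of_mem P.2 hxP).coprime (coprime_orderOf_of_mem S.cop hk)).symm
    have h1 : cls (k * x) = m := by
      refine S.m_of_le (mul_notMem_center hcomm hco hknc) fun y hy => ?_
      exact mem_cent.2 ((show Commute y k from hab y hy k hk).mul_right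
        (Subgroup.mem_centralizer_iff.1 hxC y hy))
    have h2 : cent (k * x) = cent k := eq_of_le_cls ((cent_mul hcomm hco).trans_le inf_le_left)
      (by rw [h1, hkm])
    rw [hCeq, ← h2, cent_mul hcomm hco]
    exact inf_le_right
  have hCab : IsMulCommutative C := by
    refine ⟨⟨fun s t => Subtype.ext ?_⟩⟩
    obtain ⟨y, hy, x, hx, hyx⟩ := S.exists_mul P (t : G)
    have hyC : y ∈ C := Subgroup.mem_centralizer_iff.2 fun w hw => hab w hw y hy
    have hxC : x ∈ C := (Subgroup.mul_mem_cancel_left C hyC).1 (hyx.symm ▸ t.2)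
    show (s : G) * t = t * s
    rw [← hyx]
    exact ((show Commute (s : G) y from mem_cent.1 (hKC y hy s.2)).mul_right
      (mem_cent.1 (hP0C x (Subgroup.mem_inf.2 ⟨hx, hxC⟩) s.2))).eq
  refine ⟨ha1, ?_, hCab, hCidx, ?_⟩
  · -- `P` fixes only `1` in `K`
    letI : MulAction (P : Subgroup G) K :=
      MulAction.compHom K ((MulAut.conjNormal (H := K)).comp (P : Subgroup G).subtype)
    have hfix : Nat.card (MulAction.fixedPoints (P : Subgroup G) K) = 1 := by
      rw [Nat.card_eq_one_iff_unique]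
      refine ⟨⟨fun s t => ?_⟩, ⟨⟨1, fun x => map_one (MulAut.conjNormal (H := K) (x : G))⟩⟩⟩
      suffices hone : ∀ w : MulAction.fixedPoints (P : Subgroup G) K, (w : K) = 1 from
        Subtype.ext ((hone s).trans (hone t).symm)
      intro w
      refine Subtype.ext (Subgroup.mem_bot.1 ?_)
      refine hline h hhC _ (w : K).2 ?_
      exact congrArg Subtype.val (w.2 (⟨h, hh⟩ : (P : Subgroup G)))
    have h1 := P.2.card_modEq_card_fixedPoints K
    rw [hfix, hKn] at h1
    exact (Nat.modEq_iff_dvd' S.hyp.one_lt_n.le).1 h1.symm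
  · -- the commutator subgroup of `P`
    have hC'c : ∀ s ∈ C', ∀ t ∈ C', s * t = t * s := fun s hs t ht =>
      Subtype.ext (congrArg (fun z : C => (z : G))
        (hCab.is_comm.comm (⟨(s : G), Subgroup.mem_subgroupOf.1 hs⟩ : C) ⟨(t : G), Subgroup.mem_subgroupOf.1 ht⟩))
    let φ : C' →* (P : Subgroup G) := MonoidHom.mk' (fun t => ⁅h', (t : (P : Subgroup G))⁆) fun s t => by
      have h1 := hC'c _ s.2 _ (hC'n.conj_mem _ t.2 h')
      have h2 := hC'c _ (inv_mem t.2) _ (inv_mem s.2)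
      show ⁅h', (s : (P : Subgroup G)) * t⁆ = ⁅h', (s : (P : Subgroup G))⁆ * ⁅h', (t : (P : Subgroup G))⁆
      calc ⁅h', (s : (P : Subgroup G)) * t⁆
          = h' * s * h'⁻¹ * (h' * t * h'⁻¹) * ((t : (P : Subgroup G))⁻¹ * (s : (P : Subgroup G))⁻¹) := by
            rw [commutatorElement_def]; group
        _ = h' * s * h'⁻¹ * ((h' * t * h'⁻¹) * (s : (P : Subgroup G))⁻¹) * (t : (P : Subgroup G))⁻¹ := by
            rw [h2]; group
        _ = h' * s * h'⁻¹ * ((s : (P : Subgroup G))⁻¹ * (h' * t * h'⁻¹)) * (t : (P : Subgroup G))⁻¹ := by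
            rw [hC'c _ (hC'n.conj_mem _ t.2 h') _ (inv_mem s.2)]
        _ = _ := by simp only [commutatorElement_def]; group
    set I := φ.range with hI
    have hker : Nat.card φ.ker * q = q ^ c := by
      have h3 : φ.ker = (Subgroup.centralizer ({h'} : Set (P : Subgroup G))).subgroupOf C' := by
        ext t
        rw [MonoidHom.mem_ker, Subgroup.mem_subgroupOf, Subgroup.mem_centralizer_singleton_iff]
        show ⁅h', (t : (P : Subgroup G))⁆ = 1 ↔ _
        rw [commutatorElement_eq_one_iff_mul_comm]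
        exact eq_comm
      set D := Subgroup.centralizer ({h'} : Set (P : Subgroup G))
      have hDc : Nat.card D = q ^ c := by
        have h4 := Subgroup.card_mul_index D
        rw [hcn h' (S.mn_of_not_le hhn).1, hPc, pow_add] at h4
        exact Nat.eq_of_mul_eq_mul_right (pow_pos hq.pos _) h4
      have hhD : h' ∈ D := Subgroup.mem_centralizer_singleton_iff.2 rfl
      have hsup : C' ⊔ D = ⊤ := eq_top_iff.2 fun x _ =>
        sup_le le_sup_left ((Subgroup.zpowers_le.2 hhD).trans le_sup_right) (hgen x)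
      have h5 : C'.relIndex D = q := by rw [← Subgroup.relIndex_sup_right, sup_comm, hsup,
        Subgroup.relIndex_top_right, hidxC]
      have h6 := Subgroup.card_mul_index (C'.subgroupOf D)
      rw [show (C'.subgroupOf D).index = q from h5, hDc] at h6
      rw [h3, ← h6, ← Subgroup.inf_subgroupOf_right D C', ← Subgroup.inf_subgroupOf_right C' D,
        Nat.card_congr (Subgroup.subgroupOfEquivOfLe inf_le_right).toEquiv,
        Nat.card_congr (Subgroup.subgroupOfEquivOfLe inf_le_right).toEquiv, inf_comm]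
    have hC'card : Nat.card C' = q ^ c := by
      rw [hC', ← Subgroup.inf_subgroupOf_left,
        Nat.card_congr (Subgroup.subgroupOfEquivOfLe inf_le_left).toEquiv]
      exact hP0c
    have hIc : Nat.card I = q := by
      have h6 := Subgroup.card_mul_index φ.ker
      rw [Subgroup.index_ker, hC'card, ← hker] at h6
      exact Nat.eq_of_mul_eq_mul_left Nat.card_pos h6
    suffices hcomm : commutator (P : Subgroup G) = I by rw [hcomm, hIc]
    refine le_antisymm ?_ ?_
    · have hIC : I ≤ C' := by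
        rintro _ ⟨t, rfl⟩
        exact mul_mem (hC'n.conj_mem _ t.2 h') (inv_mem t.2)
      haveI hIn : I.Normal := by
        refine ⟨fun w hw x => ?_⟩
        have hnorm : C' ⊔ Subgroup.zpowers h' ≤ Subgroup.normalizer (I : Set (P : Subgroup G)) := by
          refine sup_le (fun s hs => conj_mem_iff_normalizer fun v hv => ?_)
            (Subgroup.zpowers_le.2 (conj_mem_iff_normalizer fun v hv => ?_))
          · rw [hC'c s hs v (hIC hv), mul_inv_cancel_right]; exact hv
          · obtain ⟨t, rfl⟩ := hv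
            refine ⟨⟨h' * t * h'⁻¹, hC'n.conj_mem _ t.2 h'⟩, ?_⟩
            show ⁅h', h' * (t : (P : Subgroup G)) * h'⁻¹⁆ = h' * ⁅h', (t : (P : Subgroup G))⁆ * h'⁻¹
            simp only [commutatorElement_def]; group
        exact (Subgroup.mem_normalizer_iff.1 (hnorm (hgen x)) w).1 hw
      rw [commutator_def, Subgroup.commutator_le]
      intro x _ y _
      set f := QuotientGroup.mk' I
      have hf : C' ⊔ Subgroup.zpowers h' ≤
          (Subgroup.center ((P : Subgroup G) ⧸ I)).comap f := by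
        have hth : ∀ t ∈ C', f t * f h' = f h' * f t := by
          intro t ht
          have h7 : f ⁅h', t⁆ = 1 := (QuotientGroup.eq_one_iff _).2 ⟨⟨t, ht⟩, rfl⟩
          rw [map_commutatorElement, commutatorElement_eq_one_iff_mul_comm] at h7
          exact h7.symm
        have hcen : ∀ t : (P : Subgroup G), (∀ s ∈ C', f s * f t = f t * f s) → f h' * f t = f t * f h' →
            t ∈ (Subgroup.center ((P : Subgroup G) ⧸ I)).comap f := by
          intro t h8 h9
          refine Subgroup.mem_comap.2 (Subgroup.mem_center_iff.2 fun z => ?_)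
          obtain ⟨z, rfl⟩ := QuotientGroup.mk'_surjective I z
          obtain ⟨s, hs, w, hw, rfl⟩ := Subgroup.mem_sup_of_normal_left.1 (hgen z)
          obtain ⟨i, rfl⟩ := Subgroup.mem_zpowers_iff.1 hw
          rw [map_mul, map_zpow]
          exact ((show Commute (f s) (f t) from h8 s hs).mul_left
            ((show Commute (f h') (f t) from h9).zpow_left i)).eq
        refine sup_le (fun t ht => hcen t (fun s hs => ?_) (hth t ht).symm) (Subgroup.zpowers_le.2 ?_)
        · rw [← map_mul, hC'c s hs t ht, map_mul]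
        · exact hcen h' (fun s hs => hth s hs) rfl
      refine (QuotientGroup.eq_one_iff _).1 ?_
      show f ⁅x, y⁆ = 1
      rw [map_commutatorElement, commutatorElement_eq_one_iff_mul_comm]
      exact Subgroup.mem_center_iff.1 (hf (hgen y)) (f x)
    · rintro _ ⟨t, rfl⟩
      exact Subgroup.commutator_mem_commutator (Subgroup.mem_top _) (Subgroup.mem_top _)

end Cmp

end Cfsg.Agent.Perm.ThreeSizes
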