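import Cfsg.Agent.Lib.Perm.ThreeSizes.Zed

/-!
Groups with class sizes `1`, `m`, `m n`: subgroups attached to a noncentral primary element.
-/

set_option autoImplicit false
set_option linter.style.haveILetI false
set_option linter.unusedSectionVars false

namespace Cfsg.Agent.Perm.ThreeSizes

open Cfsg.Agent.Perm.CoprimeSizes

universe u

variable {G : Type u} [Group G] [Finite G] {m n : ℕ}

theorem conj_mem_iff_normalizer {X : Subgroup G} {g : G} (h : ∀ x ∈ X, g * x * g⁻¹ ∈ X) :
    g ∈ Subgroup.normalizer (X : Set G) := by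
  rw [Subgroup.mem_normalizer_iff_map_conj_eq]
  refine Subgroup.eq_of_le_of_card_ge ?_ (Subgroup.card_map_of_injective (MulEquiv.injective _)).ge
  rintro _ ⟨x, hx, rfl⟩
  exact h x hx

theorem isPow_of_isPGroup_zpowers {q : ℕ} {u : G} [Fact q.Prime] (hu : IsPow q u) :
    IsPGroup q (Subgroup.zpowers u) := by
  obtain ⟨k, hk⟩ := hu
  exact Solv.isPGroup_zpowers hk

theorem le_K {q c : ℕ} {u : G} (D : Split q c u) {X : Subgroup G} (hX : X ≤ cent u)
    (hco : (Nat.card X).Coprime q) : X ≤ D.K :=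
  fun x hx => D.K_mem x (hX hx) (coprime_orderOf_of_mem hco hx)

theorem self_mem_T {q c : ℕ} {u : G} (D : Split q c u) (hu : IsPow q u) : u ∈ D.T :=
  D.T_mem u (self_mem_cent u) hu

namespace Hyp

variable (H : Hyp G m n)
include H

theorem le_T {q : ℕ} [Fact q.Prime] {u : G} (D : Split q (cq G m q) u) {X : Subgroup G}
    (hX : X ≤ cent u) (hXp : IsPGroup q X) : X ≤ D.T :=
  fun x hx => D.T_mem x (hX hx) (isPow_of_mem hXp hx)

/-- A subgroup centralized by a noncentral element and of full `q`-part there, with a Sylow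
`q`-subgroup normalising it if its index there is `q`. -/
theorem exists_sylow_normalizing {q : ℕ} [hqf : Fact q.Prime] (hqm : q ∣ m) (hv : m.factorization q = 1)
    {T : Subgroup G} (hT : IsPGroup q T) (hTc : Nat.card T = q ^ cq G m q) :
    ∃ S : Sylow q G, T ≤ S ∧ (S : Subgroup G) ≤ Subgroup.normalizer (T : Set G) := by
  obtain ⟨S, hS⟩ := hT.exists_le_sylow
  refine ⟨S, hS, ?_⟩
  have hSc : Nat.card (S : Subgroup G) = q ^ (cq G m q + 1) := by
    rw [S.card_eq_multiplicity, ← H.cq_add hqf.out hqm, hv]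
  have hidx : (T.subgroupOf (S : Subgroup G)).index = q := by
    have h := Subgroup.card_mul_index (T.subgroupOf (S : Subgroup G))
    rw [Nat.card_congr (Subgroup.subgroupOfEquivOfLe hS).toEquiv, hTc, hSc, pow_succ] at h
    exact Nat.eq_of_mul_eq_mul_left (pow_pos hqf.out.pos _) h
  haveI : (T.subgroupOf (S : Subgroup G)).Normal := by
    refine Subgroup.normal_of_index_eq_minFac_card ?_
    rw [hidx, hSc, Nat.pow_minFac (Nat.succ_ne_zero _), hqf.out.minFac_eq]
  exact (Subgroup.normal_subgroupOf_iff_le_normalizer hS).1 inferInstance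

/-- If `v` is noncentral and centralizes a full `q`-part `T`, elements outside `T` of a `q`-group
containing `T` move `v`. -/
theorem notMem_cent {q : ℕ} [Fact q.Prime] (hqm : q ∣ m) {v x : G} (hv : v ∉ Subgroup.center G)
    {T S : Subgroup G} (hTc : Nat.card T = q ^ cq G m q) (hS : IsPGroup q S) (hTS : T ≤ S)
    (hTv : T ≤ cent v) (hx : x ∈ S) (hxT : x ∉ T) : x ∉ cent v := fun hxv => by
  have hle : T ⊔ Subgroup.zpowers x ≤ cent v := sup_le hTv (Subgroup.zpowers_le.2 hxv)
  have h1 := Subgroup.eq_of_le_of_card_ge (le_sup_left : T ≤ T ⊔ Subgroup.zpowers x)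
    (by rw [hTc]; exact H.card_le hqm hv (hS.to_le (sup_le hTS (Subgroup.zpowers_le.2 hx))) hle)
  exact hxT (h1 ▸ Subgroup.mem_sup_right (Subgroup.mem_zpowers x))

theorem fac_card_cent_le {q : ℕ} [hqf : Fact q.Prime] (hqm : q ∣ m) {v : G} (hv : v ∉ Subgroup.center G)
    {X : Subgroup G} (hX : X ≤ cent v) : (Nat.card X).factorization q ≤ cq G m q := by
  rw [← H.fac_cent hqf.out hqm hv]
  exact (Nat.factorization_le_iff_dvd Nat.card_pos.ne' Nat.card_pos.ne').2 (Subgroup.card_dvd_of_le hX) q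

/-- The normal core of the centralizer of an element whose class is a set centralized by `T`. -/
theorem le_core {x : G} {T : Subgroup G} (h : ∀ g : G, ∀ t ∈ T, t ∈ cent (g * x * g⁻¹)) :
    T ≤ (cent x).normalCore := by
  intro t ht g
  have h1 := h g⁻¹ t ht
  rw [inv_inv] at h1
  have h2 := mem_cent.1 h1
  rw [mem_cent]
  calc g * t * g⁻¹ * x = g * (t * (g⁻¹ * x * g)) * g⁻¹ := by group
    _ = x * (g * t * g⁻¹) := by rw [h2]; group

end Hyp

end Cfsg.Agent.Perm.ThreeSizes
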