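import Cfsg.Agent.Lib.Perm.ThreeSizes.Split
import Cfsg.Agent.Lib.Perm.ThreeSizes.Norm

/-!
Groups with class sizes `1`, `m`, `m n`: a `q`-element central modulo the centre in a Sylow
`q`-subgroup, and the automiser of the `q'`-part of its centralizer.
-/

set_option autoImplicit false
set_option linter.style.haveILetI false
set_option linter.unusedSectionVars false

open scoped commutatorElement

namespace Cfsg.Agent.Perm.ThreeSizes

open Cfsg.Agent.Perm.CoprimeSizes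

universe u

variable {G : Type u} [Group G] [Finite G] {m n : ℕ}

theorem cent_eq_of_mul_center {g c : G} (hc : c ∈ Subgroup.center G) : cent (c * g) = cent g := by
  refine Subgroup.ext fun x => ?_
  have hxc : x * c = c * x := Subgroup.mem_center_iff.1 hc x
  rw [mem_cent, mem_cent]
  constructor
  · intro h
    rw [← mul_assoc, hxc, mul_assoc, mul_assoc] at h
    exact mul_left_cancel h
  · intro h
    rw [← mul_assoc, hxc, mul_assoc, h, mul_assoc]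

theorem mem_cent_conj {x g k : G} (h : k ∈ cent g) : x * k * x⁻¹ ∈ cent (x * g * x⁻¹) := by
  rw [mem_cent] at h ⊢
  calc x * k * x⁻¹ * (x * g * x⁻¹) = x * (k * g) * x⁻¹ := by group
    _ = x * g * x⁻¹ * (x * k * x⁻¹) := by rw [h]; group

/-- A `q`-element of a Sylow `q`-subgroup `Q`, noncentral in `G` but central in `Q` modulo `Z(G)`. -/
structure Zed (m q : ℕ) [Fact q.Prime] (Q : Sylow q G) where
  z : G
  mem : z ∈ (Q : Subgroup G)
  isPow : IsPow q z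
  notCenter : z ∉ Subgroup.center G
  split : Split q (cq G m q) z
  T_eq : split.T = (Q : Subgroup G) ⊓ cent z
  conj_mem : ∀ x ∈ (Q : Subgroup G), ∀ k ∈ cent z, x * k * x⁻¹ ∈ cent z
  pow_mem : ∀ x ∈ (Q : Subgroup G), x ^ q ∈ split.T
  comm_mem : ∀ x ∈ (Q : Subgroup G), ∀ y ∈ (Q : Subgroup G), ⁅x, y⁆ ∈ split.T

namespace Hyp

variable (H : Hyp G m n)
include H

theorem exists_zed {q : ℕ} [hqf : Fact q.Prime] (hqm : q ∣ m) (Q : Sylow q G) : Nonempty (Zed m q Q) := by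
  classical
  set Zq := (Subgroup.center G).subgroupOf (Q : Subgroup G) with hZq
  haveI : Zq.Normal := (inferInstance : (Subgroup.center G).Normal).subgroupOf _
  have hQ' : IsPGroup q ((Q : Subgroup G) ⧸ Zq) := Q.2.to_quotient Zq
  haveI : Nontrivial ((Q : Subgroup G) ⧸ Zq) := by
    obtain ⟨u, hu, hun⟩ := H.exists_noncentral hqm Q
    exact ⟨⟨QuotientGroup.mk ⟨u, hu⟩, 1, fun e => hun
      (Subgroup.mem_subgroupOf.1 ((QuotientGroup.eq_one_iff _).1 e))⟩⟩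
  haveI := hQ'.center_nontrivial
  obtain ⟨k, hkc⟩ := IsPGroup.iff_card.1 (hQ'.to_subgroup (Subgroup.center ((Q : Subgroup G) ⧸ Zq)))
  have hk : k ≠ 0 := fun h => by
    have := Finite.one_lt_card (α := Subgroup.center ((Q : Subgroup G) ⧸ Zq))
    rw [hkc, h, pow_zero] at this
    exact lt_irrefl 1 this
  obtain ⟨c, hc⟩ := exists_prime_orderOf_dvd_card' (G := Subgroup.center ((Q : Subgroup G) ⧸ Zq)) q
    (by rw [hkc]; exact dvd_pow_self q hk)
  obtain ⟨z, hz⟩ := QuotientGroup.mk_surjective (c : (Q : Subgroup G) ⧸ Zq)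
  have hzn : (z : G) ∉ Subgroup.center G := fun h => by
    have h1 : (c : (Q : Subgroup G) ⧸ Zq) = 1 :=
      hz ▸ (QuotientGroup.eq_one_iff z).2 (Subgroup.mem_subgroupOf.2 h)
    rw [show c = 1 from Subtype.ext h1, orderOf_one] at hc
    exact hqf.out.ne_one hc.symm
  have hzq : (z : G) ^ q ∈ Subgroup.center G := by
    have h1 : (QuotientGroup.mk (z ^ q) : (Q : Subgroup G) ⧸ Zq) = 1 := by
      have h2 := congrArg Subtype.val (pow_orderOf_eq_one c)
      rw [hc, Subgroup.coe_pow, OneMemClass.coe_one] at h2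
      rw [QuotientGroup.mk_pow, hz, h2]
    exact Subgroup.mem_subgroupOf.1 ((QuotientGroup.eq_one_iff _).1 h1)
  have hzx : ∀ x ∈ (Q : Subgroup G), ⁅x, (z : G)⁆ ∈ Subgroup.center G := by
    intro x hx
    have h1 : (QuotientGroup.mk ⁅(⟨x, hx⟩ : (Q : Subgroup G)), z⁆ : (Q : Subgroup G) ⧸ Zq) = 1 := by
      show QuotientGroup.mk' Zq _ = 1
      rw [map_commutatorElement, commutatorElement_eq_one_iff_mul_comm, QuotientGroup.mk'_apply,
        QuotientGroup.mk'_apply, hz]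
      exact Subgroup.mem_center_iff.1 c.2 _
    exact Subgroup.mem_subgroupOf.1 ((QuotientGroup.eq_one_iff _).1 h1)
  have hpow : IsPow q (z : G) := isPow_of_mem Q.2 z.2
  obtain ⟨D⟩ := H.split hqm hpow hzn
  have hconj : ∀ x ∈ (Q : Subgroup G), ∀ k ∈ cent (z : G), x * k * x⁻¹ ∈ cent (z : G) := by
    intro x hx k hk
    have h1 := mem_cent_conj (x := x) hk
    rwa [show x * (z : G) * x⁻¹ = ⁅x, (z : G)⁆ * z by rw [commutatorElement_def]; group,
      cent_eq_of_mul_center (hzx x hx)] at h1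
  have hTQ : D.T ≤ (Q : Subgroup G) := by
    have hnorm : (Q : Subgroup G) ≤ Subgroup.normalizer (D.T : Set G) := by
      intro x hx
      refine Subgroup.mem_normalizer_iff.2 fun t => ⟨fun ht => ?_, fun ht => ?_⟩
      · exact D.T_mem _ (hconj x hx t (D.T_le ht)) ((isPow_of_mem D.T_pgroup ht).conj x)
      · have := D.T_mem _ (hconj x⁻¹ (inv_mem hx) _ (D.T_le ht)) ((isPow_of_mem D.T_pgroup ht).conj x⁻¹)
        simpa [mul_assoc] using this
    have hp : IsPGroup q ((D.T ⊔ (Q : Subgroup G) : Subgroup G)) :=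
      D.T_pgroup.to_sup_of_normal_left' Q.2 hnorm
    exact le_sup_left.trans (Q.3 hp le_sup_right).le
  have hT : D.T = (Q : Subgroup G) ⊓ cent (z : G) :=
    le_antisymm (le_inf hTQ D.T_le) fun g hg => D.T_mem g (Subgroup.mem_inf.1 hg).2
      (isPow_of_mem Q.2 (Subgroup.mem_inf.1 hg).1)
  have hmem : ∀ x ∈ (Q : Subgroup G), ⁅x, (z : G)⁆ = 1 → x ∈ D.T := fun x hx h => by
    rw [hT]
    exact Subgroup.mem_inf.2 ⟨hx, mem_cent.2 (commutatorElement_eq_one_iff_mul_comm.1 h)⟩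
  have hmul : ∀ x ∈ (Q : Subgroup G), ∀ y ∈ (Q : Subgroup G),
      ⁅x * y, (z : G)⁆ = ⁅x, (z : G)⁆ * ⁅y, (z : G)⁆ := by
    intro x _ y hy
    have h1 : x * ⁅y, (z : G)⁆ = ⁅y, (z : G)⁆ * x := Subgroup.mem_center_iff.1 (hzx y hy) x
    have h2 : ⁅x, (z : G)⁆ * ⁅y, (z : G)⁆ = ⁅y, (z : G)⁆ * ⁅x, (z : G)⁆ :=
      Subgroup.mem_center_iff.1 (hzx y hy) _
    rw [h2]
    calc ⁅x * y, (z : G)⁆ = x * ⁅y, (z : G)⁆ * z * x⁻¹ * (z : G)⁻¹ := by
          simp only [commutatorElement_def]; group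
      _ = ⁅y, (z : G)⁆ * ⁅x, (z : G)⁆ := by rw [h1]; simp only [commutatorElement_def]; group
  have hzpow : ∀ x ∈ (Q : Subgroup G), ∀ i : ℕ, ⁅x ^ i, (z : G)⁆ = ⁅x, (z : G)⁆ ^ i := by
    intro x hx i
    induction i with
    | zero => rw [pow_zero, pow_zero, commutatorElement_def]; group
    | succ i ih => rw [pow_succ, hmul _ (pow_mem hx i) x hx, ih, pow_succ]
  refine ⟨⟨z, z.2, hpow, hzn, D, hT, hconj, fun x hx => hmem _ (pow_mem hx q) ?_, fun x hx y hy => ?_⟩⟩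
  · rw [hzpow x hx]
    have h1 : ∀ i : ℕ, (x * (z : G) * x⁻¹) ^ i = ⁅x, (z : G)⁆ ^ i * (z : G) ^ i := fun i => by
      rw [← (show Commute ⁅x, (z : G)⁆ (z : G) from
        (Subgroup.mem_center_iff.1 (hzx x hx) z).symm).mul_pow]
      congr 1
      rw [commutatorElement_def]; group
    have h2 := h1 q
    rw [conj_pow, (Subgroup.mem_center_iff.1 hzq x), mul_inv_cancel_right] at h2
    exact mul_eq_right.1 h2.symm
  · refine hmem _ (mul_mem (mul_mem (mul_mem hx hy) (inv_mem hx)) (inv_mem hy)) ?_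
    have hinv : ∀ w ∈ (Q : Subgroup G), ⁅w⁻¹, (z : G)⁆ = ⁅w, (z : G)⁆⁻¹ := fun w hw =>
      eq_inv_of_mul_eq_one_left (by
        rw [← hmul _ (inv_mem hw) w hw, inv_mul_cancel, commutatorElement_def]; group)
    rw [commutatorElement_def x y, hmul _ (mul_mem (mul_mem hx hy) (inv_mem hx)) _ (inv_mem hy),
      hmul _ (mul_mem hx hy) _ (inv_mem hx), hmul x hx y hy, hinv x hx, hinv y hy]
    have h3 := Subgroup.mem_center_iff.1 (hzx x hx) ⁅y, (z : G)⁆
    rw [mul_assoc ⁅x, (z : G)⁆, (Commute.inv_right (show Commute ⁅y, (z : G)⁆ ⁅x, (z : G)⁆ from h3)).eq]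
    group

end Hyp

/-- Conjugation by an element normalising `B`. -/
def conjEnd {B : Subgroup G} {x : G} (hx : x ∈ Subgroup.normalizer (B : Set G)) : Monoid.End B :=
  ({ toFun := fun b => ⟨x * b * x⁻¹, (Subgroup.mem_normalizer_iff.1 hx _).1 b.2⟩
     map_one' := Subtype.ext (by show x * (1 : G) * x⁻¹ = 1; group)
     map_mul' := fun a b => Subtype.ext (by
      show x * ((a : G) * b) * x⁻¹ = x * a * x⁻¹ * (x * b * x⁻¹); group) } : B →* B)

theorem conjEnd_pow {B : Subgroup G} {x : G} (hx : x ∈ Subgroup.normalizer (B : Set G)) (i : ℕ) (b : B) :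
    (((conjEnd hx ^ i) b : B) : G) = x ^ i * b * (x ^ i)⁻¹ := by
  induction i generalizing b with
  | zero => show (b : G) = _; simp
  | succ i ih =>
    rw [pow_succ]
    show (((conjEnd hx ^ i) (conjEnd hx b) : B) : G) = _
    rw [ih]
    show x ^ i * (x * b * x⁻¹) * (x ^ i)⁻¹ = _
    rw [pow_succ]; group

theorem norm_one_or_central {q : ℕ} [Fact q.Prime] {B : Subgroup G} (hBc : IsMulCommutative B)
    {s₁ s₂ : G} (h1 : s₁ ∈ Subgroup.normalizer (B : Set G)) (h2 : s₂ ∈ Subgroup.normalizer (B : Set G))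
    (hcomm : ∀ b ∈ B, s₂ * (s₁ * b * s₁⁻¹) * s₂⁻¹ = s₁ * (s₂ * b * s₂⁻¹) * s₁⁻¹)
    (hp1 : ∀ b ∈ B, s₁ ^ q * b * (s₁ ^ q)⁻¹ = b) (Z : Subgroup G) (hZ2 : ∀ z ∈ Z, s₂ * z = z * s₂)
    (hline1 : ∀ w ∈ B, s₁ * w * s₁⁻¹ = w → w ∈ Z)
    (hp : ∀ j : ℕ, ∀ b ∈ B, (s₂ * s₁ ^ j) ^ q * b * ((s₂ * s₁ ^ j) ^ q)⁻¹ = b)
    (hline : ∀ j : ℕ, ∀ w ∈ B, (s₂ * s₁ ^ j) * w * (s₂ * s₁ ^ j)⁻¹ = w → w ∈ Z)
    {b : G} (hb : b ∈ B) : b ^ q ∈ Z := by
  letI : CommGroup B :=
    { (inferInstance : Group B) with mul_comm := fun x y => hBc.is_comm.comm x y }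
  set A₁ : Monoid.End B := conjEnd h1 with hA₁
  set A₂ : Monoid.End B := conjEnd h2 with hA₂
  have hj : ∀ j : ℕ, (A₂ * A₁ ^ j : Monoid.End B) =
      conjEnd (B := B) (x := s₂ * s₁ ^ j) (mul_mem h2 (pow_mem h1 j)) := by
    intro j
    refine MonoidHom.ext fun w => Subtype.ext ?_
    show s₂ * ((((A₁ ^ j : Monoid.End B) w : B)) : G) * s₂⁻¹ = _
    refine (congrArg (fun a : G => s₂ * a * s₂⁻¹) (conjEnd_pow h1 j w)).trans ?_
    show _ = s₂ * s₁ ^ j * w * (s₂ * s₁ ^ j)⁻¹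
    group
  have hA1q : A₁ ^ q = 1 := MonoidHom.ext fun w => Subtype.ext (by
    exact (conjEnd_pow h1 q w).trans (hp1 w w.2))
  have hc : Commute A₂ A₁ := MonoidHom.ext fun w => Subtype.ext (hcomm w w.2)
  have hfix : ∀ (x : G) (hx : x ∈ Subgroup.normalizer (B : Set G)),
      (∀ w ∈ B, x ^ q * w * (x ^ q)⁻¹ = w) → (∀ w ∈ B, x * w * x⁻¹ = w → w ∈ Z) →
      ∀ w : B, ((norm q (conjEnd hx) w : B) : G) ∈ Z := by
    intro x hx hxq hxl w
    have hA : (conjEnd hx) ^ q = 1 := MonoidHom.ext fun v => Subtype.ext (by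
      exact (conjEnd_pow hx q v).trans (hxq v v.2))
    exact hxl _ (Subtype.coe_prop _) (congrArg Subtype.val (apply_norm hA w))
  set ZB := Z.subgroupOf B
  have hL : ∏ j : ZMod q, norm q (A₂ * A₁ ^ j.val) (⟨b, hb⟩ : B) ∈ ZB :=
    prod_mem fun j _ => by
      rw [Subgroup.mem_subgroupOf, hj]
      exact hfix _ _ (hp j.val) (hline j.val) _
  rw [norm_identity hc hA1q] at hL
  have hR : ∏ i ∈ (Finset.univ : Finset (ZMod q)).erase 0, (A₂ ^ i.val) (norm q A₁ ⟨b, hb⟩) ∈ ZB := by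
    refine prod_mem fun i _ => ?_
    have h3 := hfix s₁ h1 hp1 hline1 ⟨b, hb⟩
    rw [Subgroup.mem_subgroupOf]
    refine Set.mem_of_eq_of_mem ((conjEnd_pow h2 i.val (norm q A₁ ⟨b, hb⟩)).trans ?_) h3
    rw [((show Commute s₂ _ from hZ2 _ h3).pow_left _).eq, mul_inv_cancel_right]
  exact (Subgroup.mul_mem_cancel_right ZB hR).1 hL

namespace Hyp

variable (H : Hyp G m n)
include H

/-- A noncentral abelian `q'`-subgroup of `C(z)` normalised by `Q` forces `q ∥ m`. -/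
theorem fac_eq_one {q : ℕ} [hqf : Fact q.Prime] (hqm : q ∣ m) {Q : Sylow q G} (D : Zed m q Q)
    {B : Subgroup G} (hBc : IsMulCommutative B) (hB : B ≤ D.split.K)
    (hQB : (Q : Subgroup G) ≤ Subgroup.normalizer (B : Set G))
    {b : G} (hb : b ∈ B) (hbn : b ∉ Subgroup.center G) : m.factorization q = 1 := by
  classical
  set T := D.split.T with hT
  have hTQ : T ≤ (Q : Subgroup G) := by rw [hT, D.T_eq]; exact inf_le_left
  have hTB : ∀ t ∈ T, ∀ w ∈ B, t * w * t⁻¹ = w := fun t ht w hw => by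
    rw [(D.split.comm t ht w (hB hw)).eq, mul_inv_cancel_right]
  have hfree : ∀ x ∈ (Q : Subgroup G), x ∉ T → ∀ w ∈ B, x * w * x⁻¹ = w → w ∈ Subgroup.center G := by
    intro x hx hxT w hw he
    by_contra hwn
    have hle : T ⊔ Subgroup.zpowers x ≤ cent w := sup_le
      (fun t ht => mem_cent.2 (D.split.comm t ht w (hB hw)).eq)
      (Subgroup.zpowers_le.2 (mem_cent.2 (mul_inv_eq_iff_eq_mul.1 he)))
    have hp : IsPGroup q ((T ⊔ Subgroup.zpowers x : Subgroup G)) :=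
      Q.2.to_le (sup_le hTQ (Subgroup.zpowers_le.2 hx))
    have h1 := Subgroup.eq_of_le_of_card_ge (le_sup_left : T ≤ T ⊔ Subgroup.zpowers x)
      (by rw [hT, D.split.T_card]; exact H.card_le hqm hwn hp hle)
    exact hxT (h1 ▸ Subgroup.mem_sup_right (Subgroup.mem_zpowers x))
  by_contra hne
  have h2 : 2 ≤ m.factorization q := by have := H.fac_pos hqf.out hqm; omega
  have hQc : Nat.card (Q : Subgroup G) = q ^ (cq G m q + m.factorization q) := by
    rw [Q.card_eq_multiplicity, H.cq_add hqf.out hqm]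
  obtain ⟨s₁, hs₁, hs₁T⟩ : ∃ x ∈ (Q : Subgroup G), x ∉ T := by
    by_contra h
    push Not at h
    have h3 := Subgroup.card_le_of_le (show (Q : Subgroup G) ≤ T from h)
    rw [hQc, hT, D.split.T_card, Nat.pow_le_pow_iff_right hqf.out.one_lt] at h3
    omega
  haveI hTn : (T.subgroupOf (Q : Subgroup G)).Normal := ⟨fun t ht x => by
    rw [Subgroup.mem_subgroupOf] at ht ⊢
    show (x : G) * (t : G) * (x : G)⁻¹ ∈ T
    have h3 := D.comm_mem x x.2 t t.2
    rw [commutatorElement_def] at h3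
    have := mul_mem h3 ht
    rwa [inv_mul_cancel_right] at this⟩
  set T' := T.subgroupOf (Q : Subgroup G)
  set E := T' ⊔ Subgroup.zpowers (⟨s₁, hs₁⟩ : (Q : Subgroup G)) with hE
  obtain ⟨s₂', hs₂'⟩ : ∃ x : (Q : Subgroup G), x ∉ E := by
    by_contra h
    push Not at h
    set f := QuotientGroup.mk' T'
    have hsurj : ∀ y, y ∈ Subgroup.zpowers (f ⟨s₁, hs₁⟩) := by
      intro y
      obtain ⟨x, rfl⟩ := QuotientGroup.mk'_surjective T' y
      obtain ⟨t, ht, w, hw, rfl⟩ := Subgroup.mem_sup_of_normal_left.1 (h x)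
      obtain ⟨i, rfl⟩ := Subgroup.mem_zpowers_iff.1 hw
      rw [map_mul, map_zpow, show f t = 1 from (QuotientGroup.eq_one_iff t).2 ht, one_mul]
      exact zpow_mem (Subgroup.mem_zpowers _) i
    have ho : orderOf (f ⟨s₁, hs₁⟩) ∣ q := orderOf_dvd_of_pow_eq_one (by
      rw [← map_pow]
      exact (QuotientGroup.eq_one_iff _).2 (Subgroup.mem_subgroupOf.2 (D.pow_mem s₁ hs₁)))
    rw [orderOf_eq_card_of_forall_mem_zpowers hsurj, ← Subgroup.index_eq_card] at ho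
    have h3 := Subgroup.card_mul_index T'
    rw [Nat.card_congr (Subgroup.subgroupOfEquivOfLe hTQ).toEquiv, hT, D.split.T_card, hQc, pow_add] at h3
    rw [Nat.eq_of_mul_eq_mul_left (pow_pos hqf.out.pos _) h3] at ho
    have h4 := (Nat.pow_dvd_pow_iff_le_right hqf.out.one_lt).1 (ho.trans (dvd_of_eq (pow_one q).symm))
    omega
  obtain ⟨s₂, hs₂⟩ := s₂'
  have hline : ∀ j : ℕ, s₂ * s₁ ^ j ∉ T := fun j hj => hs₂' (by
    have : (⟨s₂, hs₂⟩ : (Q : Subgroup G)) =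
        ⟨s₂ * s₁ ^ j, mul_mem hs₂ (pow_mem hs₁ j)⟩ * ((⟨s₁, hs₁⟩ : (Q : Subgroup G)) ^ j)⁻¹ :=
      Subtype.ext (by show s₂ = s₂ * s₁ ^ j * (s₁ ^ j)⁻¹; group)
    rw [this]
    exact mul_mem (Subgroup.mem_sup_left (Subgroup.mem_subgroupOf.2 hj))
      (inv_mem (pow_mem (Subgroup.mem_sup_right (Subgroup.mem_zpowers _)) j)))
  have hcomm : ∀ w ∈ B, s₂ * (s₁ * w * s₁⁻¹) * s₂⁻¹ = s₁ * (s₂ * w * s₂⁻¹) * s₁⁻¹ := by
    intro w hw
    have hw' : (s₁ * s₂) * w * (s₁ * s₂)⁻¹ ∈ B :=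
      (Subgroup.mem_normalizer_iff.1 (hQB (mul_mem hs₁ hs₂)) w).1 hw
    have h3 := hTB _ (D.comm_mem s₂ hs₂ s₁ hs₁) _ hw'
    rw [commutatorElement_def] at h3
    calc s₂ * (s₁ * w * s₁⁻¹) * s₂⁻¹
        = (s₂ * s₁ * s₂⁻¹ * s₁⁻¹) * ((s₁ * s₂) * w * (s₁ * s₂)⁻¹) * (s₂ * s₁ * s₂⁻¹ * s₁⁻¹)⁻¹ := by group
      _ = (s₁ * s₂) * w * (s₁ * s₂)⁻¹ := h3
      _ = s₁ * (s₂ * w * s₂⁻¹) * s₁⁻¹ := by group
  have hfin := norm_one_or_central hBc (hQB hs₁) (hQB hs₂) hcomm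
    (fun w hw => hTB _ (D.pow_mem s₁ hs₁) w hw) (Subgroup.center G)
    (fun z hz => Subgroup.mem_center_iff.1 hz s₂) (hfree s₁ hs₁ hs₁T)
    (fun j w hw => hTB _ (D.pow_mem _ (mul_mem hs₂ (pow_mem hs₁ j))) w hw)
    (fun j => hfree _ (mul_mem hs₂ (pow_mem hs₁ j)) (hline j)) hb
  refine hbn ?_
  obtain ⟨i, hi⟩ := exists_pow_eq_self_of_coprime
    (x := b) ((coprime_orderOf_of_mem D.split.K_coprime (hB hb)).symm)
  rw [← hi]
  exact pow_mem hfin i

end Hyp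

end Cfsg.Agent.Perm.ThreeSizes
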